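import Cfsg.Agent.Lib.PiTwo.RankThree
import Mathlib.LinearAlgebra.Matrix.ProjectiveSpecialLinearGroup
import Mathlib.FieldTheory.Finite.Basic
import Mathlib.RingTheory.IntegralDomain

/-!
`PSL₂(q)`, `q` odd, is not a minimal example when three lies in π.
-/

set_option autoImplicit false
set_option linter.style.haveILetI false
set_option linter.unusedSectionVars false

namespace Cfsg.Agent.PiTwo

open Subgroup Matrix

universe u

namespace PSLTwo

variable {F : Type} [Field F] [Fintype F]

abbrev SL (F : Type) [Field F] : Type := Matrix.SpecialLinearGroup (Fin 2) F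

theorem not_central {A : SL F} {i j : Fin 2} (hij : i ≠ j) (h : (A : Matrix (Fin 2) (Fin 2) F) i j ≠ 0) :
    A ∉ Subgroup.center (SL F) := by
  intro hc
  obtain ⟨r, -, hr⟩ := Matrix.SpecialLinearGroup.mem_center_iff.1 hc
  refine h ?_
  rw [← hr, Matrix.scalar_apply, Matrix.diagonal_apply_ne _ hij]

theorem neg_one_central {A : SL F} (h : (A : Matrix (Fin 2) (Fin 2) F) = -1) : A ∈ Subgroup.center (SL F) := by
  refine Matrix.SpecialLinearGroup.mem_center_iff.2 ⟨-1, by simp, ?_⟩
  rw [h, map_neg, map_one]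

/-- The element of order three. -/
def xMat (F : Type) [Field F] : SL F := ⟨!![0, -1; 1, -1], by simp [Matrix.det_fin_two]⟩

/-- An element with trace zero. -/
def wMat (a b c : F) (h : -(a * a) - b * c = 1) : SL F := ⟨!![a, b; c, -a], by simp [Matrix.det_fin_two]; linear_combination h⟩

/-- A diagonal element. -/
def dMat (a : Fˣ) : SL F := ⟨!![(a : F), 0; 0, ((a⁻¹ : Fˣ) : F)], by simp [Matrix.det_fin_two]⟩

/-- An upper unitriangular element. -/
def uMat (b : F) : SL F := ⟨!![1, b; 0, 1], by simp [Matrix.det_fin_two]⟩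

theorem uMat_mul (b c : F) : uMat b * uMat c = uMat (b + c) := by
  refine Subtype.ext ?_
  show (uMat b).1 * (uMat c).1 = _
  ext i j; fin_cases i <;> fin_cases j <;> simp [uMat, Matrix.mul_apply, Fin.sum_univ_two] <;> ring

/-- The root group. -/
def uHom (F : Type) [Field F] [Fintype F] : Multiplicative F →* Matrix.ProjectiveSpecialLinearGroup (Fin 2) F :=
  MonoidHom.mk' (fun b => (uMat b.toAdd : Matrix.ProjectiveSpecialLinearGroup (Fin 2) F)) fun b c => by
    rw [← QuotientGroup.mk_mul, uMat_mul]; rfl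

theorem dMat_mul (a b : Fˣ) : dMat a * dMat b = dMat (a * b) := by
  refine Subtype.ext ?_
  show (dMat a).1 * (dMat b).1 = _
  ext i j; fin_cases i <;> fin_cases j <;> simp [dMat, Matrix.mul_apply, Fin.sum_univ_two] <;> ring

/-- The torus. -/
def dHom (F : Type) [Field F] [Fintype F] : Fˣ →* Matrix.ProjectiveSpecialLinearGroup (Fin 2) F :=
  MonoidHom.mk' (fun a => (dMat a : Matrix.ProjectiveSpecialLinearGroup (Fin 2) F)) fun a b => by
    rw [← QuotientGroup.mk_mul, dMat_mul]

theorem dMat_conj_u (a : Fˣ) (b : F) : dMat a * uMat b = uMat ((a : F) * a * b) * dMat a := by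
  refine Subtype.ext ?_
  show (dMat a).1 * (uMat b).1 = (uMat _).1 * (dMat a).1
  ext i j; fin_cases i <;> fin_cases j <;> simp [dMat, uMat, Matrix.mul_apply, Fin.sum_univ_two] <;> field_simp

theorem w_dMat (a : Fˣ) (h : -((0 : F) * 0) - 1 * -1 = 1) :
    wMat 0 1 (-1) h * dMat a = dMat a⁻¹ * wMat 0 1 (-1) h := by
  refine Subtype.ext ?_
  show (wMat 0 1 (-1) h).1 * (dMat a).1 = (dMat a⁻¹).1 * (wMat 0 1 (-1) h).1
  ext i j; fin_cases i <;> fin_cases j <;> simp [dMat, wMat, Matrix.mul_apply, Fin.sum_univ_two]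

theorem w_sq (a b c : F) (h : -(a * a) - b * c = 1) :
    ((wMat a b c h * wMat a b c h : SL F) : Matrix (Fin 2) (Fin 2) F) = -1 := by
  show (wMat a b c h).1 * (wMat a b c h).1 = _
  ext i j; fin_cases i <;> fin_cases j <;> simp [wMat, Matrix.mul_apply, Fin.sum_univ_two]
  · linear_combination -h
  · ring
  · ring
  · linear_combination -h

theorem x_cube : xMat F * xMat F * xMat F = 1 := by
  refine Subtype.ext ?_
  show (xMat F).1 * (xMat F).1 * (xMat F).1 = 1
  ext i j; fin_cases i <;> fin_cases j <;> simp [xMat, Matrix.mul_apply, Fin.sum_univ_two]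

theorem w_x (a c : F) (h : -(a * a) - (c - a) * c = 1) :
    xMat F * (wMat a (c - a) c h * xMat F) = wMat a (c - a) c h := by
  refine Subtype.ext ?_
  show (xMat F).1 * ((wMat a (c - a) c h).1 * (xMat F).1) = (wMat a (c - a) c h).1
  ext i j; fin_cases i <;> fin_cases j <;> simp [wMat, xMat, Matrix.mul_apply, Fin.sum_univ_two] <;> ring

theorem exists_ac (hodd : Odd (Fintype.card F)) (h3 : (3 : F) ≠ 0) : ∃ a c : F, a * a - a * c + c * c = -1 := by
  classical
  have h2 : (2 : F) ≠ 0 := by
    refine Ring.two_ne_zero ?_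
    intro h
    haveI := ringChar.eq_iff.1 h
    have := FiniteField.even_card_iff_char_two.1 h
    rw [Nat.odd_iff] at hodd
    omega
  obtain ⟨a, b, hab⟩ := FiniteField.exists_root_sum_quadratic (R := F)
    (f := Polynomial.C (1 : F) * Polynomial.X ^ 2 + Polynomial.C (0 : F) * Polynomial.X + Polynomial.C (0 : F))
    (g := Polynomial.C (3 : F) * Polynomial.X ^ 2 + Polynomial.C (0 : F) * Polynomial.X + Polynomial.C (4 : F))
    (Polynomial.degree_quadratic one_ne_zero) (Polynomial.degree_quadratic h3) (Nat.odd_iff.1 hodd)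
  simp only [Polynomial.eval_add, Polynomial.eval_mul, Polynomial.eval_C, Polynomial.eval_pow,
    Polynomial.eval_X] at hab
  refine ⟨(a + b) / 2, b, ?_⟩
  field_simp
  linear_combination hab

end PSLTwo

variable {G : Type u} [Group G] [Finite G] {π : Set ℕ}

open PSLTwo in
theorem Minimal.no_psl (hm : Minimal π G) {F : Type} [Field F] [Fintype F] (hodd : Odd (Fintype.card F))
    (hcard : 3 < Fintype.card F) (e : G ≃* Matrix.ProjectiveSpecialLinearGroup (Fin 2) F) (h3 : 3 ∈ π) : False := by
  classical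
  have h2F : (2 : F) ≠ 0 := by
    refine Ring.two_ne_zero ?_
    intro h
    have := FiniteField.even_card_iff_char_two.1 h
    rw [Nat.odd_iff] at hodd
    omega
  have hinvol : ∀ (a b c : F) (h : -(a * a) - b * c = 1), b ≠ 0 →
      orderOf (e.symm (wMat a b c h : Matrix.ProjectiveSpecialLinearGroup (Fin 2) F)) = 2 := by
    intro a b c h hb
    rw [MulEquiv.orderOf_eq]
    refine Invol.order_two_of_sq ?_ fun h1 => ?_
    · rw [← QuotientGroup.mk_mul]
      exact (QuotientGroup.eq_one_iff _).2 (neg_one_central (w_sq a b c h))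
    · exact not_central (i := 0) (j := 1) (by decide) (by simpa [wMat] using hb) ((QuotientGroup.eq_one_iff _).1 h1)
  by_cases hac : ∃ a c : F, a * a - a * c + c * c = -1
  · -- an element of order three inverted by an involution
    obtain ⟨a, c, hac⟩ := hac
    have hdet : -(a * a) - (c - a) * c = 1 := by linear_combination -hac
    set x' : Matrix.ProjectiveSpecialLinearGroup (Fin 2) F := ↑(xMat F) with hx'
    set w' : Matrix.ProjectiveSpecialLinearGroup (Fin 2) F := ↑(wMat a (c - a) c hdet) with hw'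
    have hx3 : orderOf (e.symm x') = 3 := by
      rw [MulEquiv.orderOf_eq]
      haveI : Fact (Nat.Prime 3) := ⟨Nat.prime_three⟩
      refine orderOf_eq_prime ?_ fun h1 => ?_
      · rw [pow_succ, pow_two, hx', ← QuotientGroup.mk_mul, ← QuotientGroup.mk_mul, x_cube, QuotientGroup.mk_one]
      · exact not_central (i := 0) (j := 1) (by decide) (by simp [xMat]) ((QuotientGroup.eq_one_iff _).1 h1)
    have hwo : orderOf (e.symm w') = 2 := by
      by_cases hca : c - a = 0
      · -- then use the lower corner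
        rw [MulEquiv.orderOf_eq]
        refine Invol.order_two_of_sq ?_ fun h1 => ?_
        · rw [hw', ← QuotientGroup.mk_mul]
          exact (QuotientGroup.eq_one_iff _).2 (neg_one_central (w_sq _ _ _ hdet))
        · refine not_central (i := 1) (j := 0) (by decide) ?_ ((QuotientGroup.eq_one_iff _).1 h1)
          show c ≠ 0
          intro hc
          subst hc
          rw [show a = 0 by linear_combination -hca] at hac
          simp at hac
      · exact hinvol a (c - a) c hdet hca
    refine no_real_pi hm.tc Nat.prime_three h3 (by norm_num) hx3 hwo ?_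
    rw [← map_inv, ← map_mul, ← map_mul, ← map_inv]
    congr 1
    have h1 : x' * (w' * x') = w' := by rw [hx', hw', ← QuotientGroup.mk_mul, ← QuotientGroup.mk_mul, w_x]
    rw [eq_inv_iff_mul_eq_one]
    calc w' * x' * w'⁻¹ * x' = x'⁻¹ * (x' * (w' * x')) * w'⁻¹ * x' := by group
      _ = 1 := by rw [h1]; group
  · -- characteristic three with no square root of minus one
    push Not at hac
    have hF3 : (3 : F) = 0 := by
      by_contra h
      obtain ⟨a, c, h'⟩ := exists_ac hodd h
      exact hac a c h'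
    have hnsq : ¬ IsSquare (-1 : F) := by
      rintro ⟨r, hr⟩
      exact hac r 0 (by linear_combination -hr)
    have h34 : Fintype.card F % 4 = 3 := by
      by_contra h
      exact hnsq (FiniteField.isSquare_neg_one_iff.2 h)
    obtain ⟨m, hm2⟩ : ∃ m, Fintype.card F = 2 * m + 1 := hodd
    obtain ⟨r, hr, hrm⟩ := Nat.exists_prime_and_dvd (n := m) (by omega)
    have hr2 : r ≠ 2 := by
      rintro rfl
      omega
    haveI : Fact r.Prime := ⟨hr⟩
    obtain ⟨a, ha⟩ := exists_prime_orderOf_dvd_card' (G := Fˣ) r (by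
      rw [Nat.card_eq_fintype_card, Fintype.card_units, hm2]
      exact hrm.trans (Dvd.intro_left 2 (by omega)))
    set d := e.symm (dHom F a) with hd
    have ha2 : (a : F) * a ≠ 1 := by
      intro h
      have : r ∣ 2 := ha ▸ orderOf_dvd_of_pow_eq_one (Units.ext (by push_cast; rw [pow_two]; exact h))
      exact hr2 ((Nat.prime_dvd_prime_iff_eq hr Nat.prime_two).1 this)
    have hdr : orderOf d = r := by
      rw [hd, MulEquiv.orderOf_eq]
      refine orderOf_eq_prime (by rw [← map_pow, ← ha, pow_orderOf_eq_one, map_one]) fun h1 => ha2 ?_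
      obtain ⟨t, -, ht⟩ := Matrix.SpecialLinearGroup.mem_center_iff.1 ((QuotientGroup.eq_one_iff (dMat a)).1 h1)
      have e0 := congrFun (congrFun ht 0) 0
      have e1 := congrFun (congrFun ht 1) 1
      simp [dMat] at e0 e1
      have hai : (a : F) = (a : F)⁻¹ := e0.symm.trans e1
      calc (a : F) * a = (a : F) * (a : F)⁻¹ := by rw [← hai]
        _ = 1 := mul_inv_cancel₀ a.ne_zero
    -- the root group
    let ψ : Multiplicative F →* G := e.symm.toMonoidHom.comp (uHom F)
    have hψinj : ∀ b, ψ b = 1 → b = 1 := by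
      intro b hb
      have h1 : uHom F b = 1 := e.symm.injective (by rw [map_one]; exact hb)
      by_contra hne
      refine not_central (i := 0) (j := 1) (by decide) ?_ ((QuotientGroup.eq_one_iff (uMat b.toAdd)).1 h1)
      simp only [uMat, Matrix.of_apply, Matrix.cons_val_zero, Matrix.cons_val_one]
      exact fun hb0 => hne (toAdd_eq_zero.1 hb0)
    set U := ψ.range with hU
    haveI : Fact (Nat.Prime 3) := ⟨Nat.prime_three⟩
    have hUp : IsPGroup 3 ↥U := by
      refine IsPGroup.of_surjective (G := Multiplicative F) (fun b => ⟨1, ?_⟩) ψ.rangeRestrict ψ.rangeRestrict_surjective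
      rw [pow_one]
      refine Multiplicative.toAdd.injective ?_
      rw [toAdd_pow, toAdd_one, nsmul_eq_mul, Nat.cast_ofNat, hF3, zero_mul]
    have hu1 : ψ (Multiplicative.ofAdd 1) ≠ 1 := fun h => one_ne_zero
      (congrArg Multiplicative.toAdd (hψinj _ h) : (1 : F) = 0)
    have hUne : U ≠ ⊥ := fun h => hu1 (mem_bot.1 (h.le ⟨_, rfl⟩))
    have hconj : ∀ b, d * ψ b * d⁻¹ = ψ (Multiplicative.ofAdd ((a : F) * a * b.toAdd)) := by
      intro b
      rw [mul_inv_eq_iff_eq_mul, hd]
      show e.symm (dHom F a) * e.symm (uHom F b) = e.symm (uHom F _) * e.symm (dHom F a)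
      rw [← map_mul, ← map_mul]
      congr 1
      exact congrArg (QuotientGroup.mk' _) (dMat_conj_u a b.toAdd)
    have hdN : d ∈ normalizer (U : Set G) := by
      rw [mem_normalizer_iff_map_conj_eq]
      refine eq_of_le_of_card_ge ?_ (card_map_of_injective (MulAut.conj d).injective).ge
      rintro _ ⟨_, ⟨b, rfl⟩, rfl⟩
      exact ⟨_, (hconj b).symm⟩
    by_cases hrπ : r ∈ π
    · refine no_real_pi hm.tc hr hrπ hr2 hdr (hinvol 0 1 (-1) (by ring) one_ne_zero) ?_
      rw [hd, ← map_inv, ← map_mul, ← map_mul, ← map_inv]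
      congr 1
      rw [mul_inv_eq_iff_eq_mul, ← map_inv]
      exact congrArg (QuotientGroup.mk' _) (w_dMat a (by ring))
    · have hc : Closed π (normalizer (U : Set G)) := hm.closed_two hUp hUne
      have hdK : d ∈ core π (normalizer (U : Set G)) :=
        (hc d).2 ⟨hdN, pi'_of_pow_prime hr (k := 1) (by rw [hdr, pow_one]) hrπ⟩
      have h1 := core_centralizes hc (PiSub.of_isPGroup hUp h3) le_normalizer hdK
        (show ψ (Multiplicative.ofAdd 1) ∈ U from ⟨_, rfl⟩) ((mem_normalizer_iff.1 hdN _).1 ⟨_, rfl⟩)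
      have h2 := hconj (Multiplicative.ofAdd 1)
      rw [h1, mul_inv_cancel_right, toAdd_ofAdd, mul_one] at h2
      have h3' : ψ (Multiplicative.ofAdd (((a : F) * a) - 1)) = 1 := by
        rw [ofAdd_sub, map_div, ← h2, div_self']
      exact ha2 (sub_eq_zero.1 (congrArg Multiplicative.toAdd (hψinj _ h3') :))

end Cfsg.Agent.PiTwo
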