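import Cfsg.Agent.Lib.Transfer.Basic
import Cfsg.Agent.S0205
import Mathlib.GroupTheory.SchurZassenhaus
import Mathlib.GroupTheory.Sylow

/-!
Groups all of whose π-subgroups have normal Sylow 2-subgroups: π'-cores and π-Hall complements.
-/

set_option autoImplicit false
set_option linter.style.haveILetI false
set_option linter.unusedSectionVars false

open scoped Pointwise

namespace Cfsg.Agent.PiTwo

open Subgroup

universe u

variable {G : Type u} [Group G] [Finite G] {π : Set ℕ}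

/-- A π-subgroup. -/
def PiSub (π : Set ℕ) (H : Subgroup G) : Prop := ∀ p : ℕ, p.Prime → p ∣ Nat.card ↥H → p ∈ π

/-- A π'-element. -/
def Pi' (π : Set ℕ) (x : G) : Prop := ∀ p : ℕ, p.Prime → p ∣ orderOf x → p ∉ π

/-- The subgroup generated by the π'-elements of a subgroup. -/
def core (π : Set ℕ) (X : Subgroup G) : Subgroup G := Subgroup.closure {x | x ∈ X ∧ Pi' π x}

/-- The π'-elements of a subgroup form a subgroup. -/
def Closed (π : Set ℕ) (X : Subgroup G) : Prop := ∀ x, x ∈ core π X ↔ x ∈ X ∧ Pi' π x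

/-- The standing hypothesis on the π-subgroups. -/
structure TwoClosed (π : Set ℕ) (G : Type u) [Group G] : Prop where
  two : 2 ∈ π
  closed : ∀ H : Subgroup G, PiSub π H → ∀ P : Sylow 2 ↥H, (P : Subgroup ↥H).Normal

theorem core_le (X : Subgroup G) : core π X ≤ X := (closure_le _).2 fun _ hx => hx.1

theorem pi'_conj {x : G} (g : G) (hx : Pi' π x) : Pi' π (g * x * g⁻¹) := by
  intro p hp hd
  exact hx p hp (by rwa [← MulEquiv.orderOf_eq (MulAut.conj g) x, MulAut.conj_apply])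

theorem PiSub.mono {A B : Subgroup G} (h : PiSub π B) (hAB : A ≤ B) : PiSub π A :=
  fun p hp hd => h p hp (hd.trans (Subgroup.card_dvd_of_le hAB))

theorem PiSub.of_isPGroup {p : ℕ} [Fact p.Prime] {A : Subgroup G} (hA : IsPGroup p A) (hp : p ∈ π) :
    PiSub π A := by
  intro q hq hd
  obtain ⟨k, hk⟩ := hA.exists_card_eq
  rw [hk] at hd
  rwa [(Nat.prime_dvd_prime_iff_eq hq Fact.out).1 (hq.dvd_of_dvd_pow hd)]

theorem eq_one_of_pi {A : Subgroup G} (hA : PiSub π A) {x : G} (hxA : x ∈ A) (hx : Pi' π x) : x = 1 := by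
  by_contra h
  obtain ⟨p, hp, hd⟩ := Nat.exists_prime_and_dvd (n := orderOf x) (fun e => h (orderOf_eq_one_iff.1 e))
  exact hx p hp hd (hA p hp (hd.trans (Subgroup.orderOf_dvd_natCard A hxA)))

/-- An element that normalises a subgroup normalises its core. -/
theorem core_conj_mem {X : Subgroup G} {g : G} (hg : g ∈ normalizer (X : Set G)) {k : G}
    (hk : k ∈ core π X) : g * k * g⁻¹ ∈ core π X := by
  induction hk using Subgroup.closure_induction with
  | mem y hy => exact Subgroup.subset_closure ⟨(mem_normalizer_iff.1 hg y).1 hy.1, pi'_conj g hy.2⟩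
  | one => simp
  | mul a b _ _ ha hb =>
    rw [show g * (a * b) * g⁻¹ = g * a * g⁻¹ * (g * b * g⁻¹) by group]
    exact mul_mem ha hb
  | inv a _ ha =>
    rw [show g * a⁻¹ * g⁻¹ = (g * a * g⁻¹)⁻¹ by group]
    exact inv_mem ha

theorem le_normalizer_core (X : Subgroup G) : X ≤ normalizer (core π X : Set G) := by
  intro x hx
  refine mem_normalizer_iff.2 fun k => ⟨fun hk => core_conj_mem (le_normalizer hx) hk, fun hk => ?_⟩
  have := core_conj_mem (π := π) (le_normalizer (inv_mem hx)) hk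
  simpa [mul_assoc] using this

/-- A subgroup of the π'-closed subgroup normalised by the core is centralised by it. -/
theorem core_centralizes {X : Subgroup G} (hX : Closed π X) {A : Subgroup G} (hA : PiSub π A) (hAX : A ≤ X)
    {k a : G} (hk : k ∈ core π X) (ha : a ∈ A) (hka : k * a * k⁻¹ ∈ A) : k * a = a * k := by
  have h1 : k * a * k⁻¹ * a⁻¹ ∈ core π X := by
    rw [show k * a * k⁻¹ * a⁻¹ = k * (a * k⁻¹ * a⁻¹) by group]
    exact mul_mem hk (core_conj_mem (le_normalizer (hAX ha)) (inv_mem hk))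
  exact mul_inv_eq_iff_eq_mul.1 (mul_inv_eq_one.1 (eq_one_of_pi hA (mul_mem hka (inv_mem ha)) ((hX _).1 h1).2))

theorem Closed.not_mem_pi {X : Subgroup G} (hX : Closed π X) {p : ℕ} (hp : p.Prime)
    (hd : p ∣ Nat.card ↥(core π X)) : p ∉ π := by
  haveI : Fact p.Prime := ⟨hp⟩
  obtain ⟨x, hx⟩ := exists_prime_orderOf_dvd_card' p hd
  refine ((hX x).1 x.2).2 p hp ?_
  rw [Subgroup.orderOf_coe, hx]

theorem Closed.odd_core (h : TwoClosed π G) {X : Subgroup G} (hX : Closed π X) :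
    Odd (Nat.card ↥(core π X)) := by
  rw [← Nat.not_even_iff_odd, even_iff_two_dvd]
  exact fun hd => hX.not_mem_pi Nat.prime_two hd h.two

theorem pi'_of_pow_prime {x : G} {p k : ℕ} (hp : p.Prime) (hx : orderOf x = p ^ k) (hpπ : p ∉ π) : Pi' π x := by
  intro q hq hd
  rw [hx] at hd
  rwa [(Nat.prime_dvd_prime_iff_eq hq hp).1 (hq.dvd_of_dvd_pow hd)]

theorem Closed.index_pi {X : Subgroup G} (hX : Closed π X) {p : ℕ} (hp : p.Prime)
    (hd : p ∣ (core π X).relIndex X) : p ∈ π := by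
  by_contra hpπ
  haveI : Fact p.Prime := ⟨hp⟩
  obtain ⟨P⟩ := (inferInstance : Nonempty (Sylow p ↥X))
  have hle : (P : Subgroup ↥X) ≤ (core π X).subgroupOf X := by
    intro x hx
    obtain ⟨k, hk⟩ := P.2 ⟨x, hx⟩
    have hxp : orderOf (x : G) ∣ p ^ k := by
      rw [Subgroup.orderOf_coe]
      exact orderOf_dvd_of_pow_eq_one (congrArg Subtype.val hk)
    obtain ⟨j, -, hj⟩ := (Nat.dvd_prime_pow hp).1 hxp
    exact (hX _).2 ⟨x.2, pi'_of_pow_prime hp hj hpπ⟩
  exact P.not_dvd_index (hd.trans (Subgroup.index_dvd_of_le hle))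

/-- The structure of a π'-closed subgroup. -/
structure Frame (π : Set ℕ) (X H T : Subgroup G) : Prop where
  le : H ≤ X
  pi : PiSub π H
  two : IsPGroup 2 T
  tle : T ≤ H
  norm : H ≤ normalizer (T : Set G)
  decomp : ∀ x ∈ X, ∃ k ∈ core π X, ∃ y ∈ H, x = k * y
  card : Nat.card ↥X = Nat.card ↥(core π X) * Nat.card ↥H
  odd : ¬ 2 ∣ T.relIndex H

theorem Closed.exists_frame (h : TwoClosed π G) {X : Subgroup G} (hX : Closed π X) :
    ∃ H T : Subgroup G, Frame π X H T := by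
  haveI : Fact (Nat.Prime 2) := ⟨Nat.prime_two⟩
  set K := (core π X).subgroupOf X with hK
  haveI : K.Normal := (normal_subgroupOf_iff_le_normalizer (core_le X)).2 (le_normalizer_core X)
  have hKc : Nat.card ↥K = Nat.card ↥(core π X) := Nat.card_congr (subgroupOfEquivOfLe (core_le X)).toEquiv
  have hcop : (Nat.card ↥K).Coprime K.index := Nat.coprime_of_dvd fun p hp h1 h2 =>
    hX.not_mem_pi hp (hKc ▸ h1) (hX.index_pi hp h2)
  obtain ⟨H', hH'⟩ := exists_right_complement'_of_coprime hcop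
  set H := H'.map X.subtype with hH
  have hHc : Nat.card ↥H = K.index := by
    rw [hH, card_map_of_injective X.subtype_injective]
    exact Nat.eq_of_mul_eq_mul_left (Nat.card_pos (α := ↥K)) (hH'.card_mul_card.trans (card_mul_index K).symm)
  have hpi : PiSub π H := fun p hp hd => hX.index_pi hp (by rw [hHc] at hd; exact hd)
  obtain ⟨P⟩ := (inferInstance : Nonempty (Sylow 2 ↥H))
  haveI := h.closed H hpi P
  refine ⟨H, (P : Subgroup ↥H).map H.subtype, ⟨map_subtype_le _, hpi, P.2.map _, map_subtype_le _, ?_, ?_, ?_, ?_⟩⟩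
  · have : ((P : Subgroup ↥H).map H.subtype).subgroupOf H = (P : Subgroup ↥H) :=
      comap_map_eq_self_of_injective H.subtype_injective _
    refine (normal_subgroupOf_iff_le_normalizer (map_subtype_le _)).1 ?_
    rw [this]
    infer_instance
  · intro x hx
    have hmem : (⟨x, hx⟩ : ↥X) ∈ K ⊔ H' := hH'.sup_eq_top ▸ mem_top _
    obtain ⟨k, hk, y, hy, he⟩ := mem_sup_of_normal_left.1 hmem
    exact ⟨k, hk, y, ⟨y, hy, rfl⟩, (congrArg Subtype.val he).symm⟩
  · rw [hHc, ← hKc, card_mul_index]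
  · rw [relIndex, show ((P : Subgroup ↥H).map H.subtype).subgroupOf H = (P : Subgroup ↥H) from
      comap_map_eq_self_of_injective H.subtype_injective _]
    exact P.not_dvd_index

namespace Frame

variable {X H T : Subgroup G}

theorem tX (f : Frame π X H T) : T ≤ X := f.tle.trans f.le

/-- The two parts. -/
theorem odd_relIndex (h : TwoClosed π G) (hX : Closed π X) (f : Frame π X H T) : ¬ 2 ∣ T.relIndex X := by
  intro hd
  have h1 := PBasic.card_mul_relIndex f.tX
  have h2 := PBasic.card_mul_relIndex f.tle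
  rw [f.card, ← h2, show Nat.card ↥(core π X) * (Nat.card ↥T * T.relIndex H) =
    Nat.card ↥T * (Nat.card ↥(core π X) * T.relIndex H) by ring] at h1
  rw [Nat.eq_of_mul_eq_mul_left Nat.card_pos h1] at hd
  rcases Nat.prime_two.dvd_mul.1 hd with h3 | h3
  · exact (hX.odd_core h).not_two_dvd_nat h3
  · exact f.odd h3

/-- Every 2-subgroup lies in a conjugate of `T` by an element of the core. -/
theorem conj_into (h : TwoClosed π G) (hX : Closed π X) (f : Frame π X H T) {A : Subgroup G} (hA : IsPGroup 2 A)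
    (hAX : A ≤ X) : ∃ k ∈ core π X, ∀ a ∈ A, k⁻¹ * a * k ∈ T := by
  haveI : Fact (Nat.Prime 2) := ⟨Nat.prime_two⟩
  obtain ⟨R, hR⟩ := (hA.comap_subtype (K := X)).exists_le_sylow
  let TS : Sylow 2 ↥X := (f.two.comap_subtype (K := X)).toSylow (f.odd_relIndex h hX)
  obtain ⟨g, hg⟩ := MulAction.exists_smul_eq (↥X) TS R
  obtain ⟨k, hk, y, hy, hgy⟩ := f.decomp g g.2
  refine ⟨k, hk, fun a ha => ?_⟩
  have h1 : (⟨a, hAX ha⟩ : ↥X) ∈ (R : Subgroup ↥X) := hR ha
  rw [← hg, Sylow.coe_subgroup_smul, mem_pointwise_smul_iff_inv_smul_mem, ← map_inv, MulAut.smul_def,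
    MulAut.conj_apply, inv_inv] at h1
  have h2 : (g : G)⁻¹ * a * (g : G) ∈ T := h1
  have h3 := (mem_normalizer_iff.1 (f.norm hy) ((g : G)⁻¹ * a * g)).1 h2
  rwa [hgy, show y * ((k * y)⁻¹ * a * (k * y)) * y⁻¹ = k⁻¹ * a * k by group] at h3

theorem conj_le_normalizer (f : Frame π X H T) {x : G} (hx : x ∈ X) :
    ∃ k ∈ core π X, k⁻¹ * x ∈ H ⊓ normalizer (T : Set G) := by
  obtain ⟨k, hk, y, hy, rfl⟩ := f.decomp x hx
  exact ⟨k, hk, by rw [inv_mul_cancel_left]; exact ⟨hy, f.norm hy⟩⟩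

end Frame

/-- Two 2-subgroups of a π'-closed subgroup: one conjugate by a core element lies with the other. -/
theorem Closed.exists_join (h : TwoClosed π G) {X : Subgroup G} (hX : Closed π X) {A B : Subgroup G}
    (hA : IsPGroup 2 A) (hB : IsPGroup 2 B) (hAX : A ≤ X) (hBX : B ≤ X) :
    ∃ k ∈ core π X, ∃ R : Subgroup G, IsPGroup 2 R ∧ R ≤ X ∧ B ≤ R ∧ ∀ a ∈ A, k * a * k⁻¹ ∈ R := by
  obtain ⟨H, T, f⟩ := hX.exists_frame h
  obtain ⟨k1, hk1, h1⟩ := f.conj_into h hX hA hAX
  obtain ⟨k2, hk2, h2⟩ := f.conj_into h hX hB hBX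
  refine ⟨k2 * k1⁻¹, mul_mem hk2 (inv_mem hk1), T.map (MulAut.conj k2).toMonoidHom, f.two.map _, ?_, ?_, ?_⟩
  · rintro _ ⟨t, ht, rfl⟩
    exact mul_mem (mul_mem (core_le X hk2) (f.tX ht)) (inv_mem (core_le X hk2))
  · exact fun b hb => ⟨k2⁻¹ * b * k2, h2 b hb, by simp [mul_assoc]⟩
  · exact fun a ha => ⟨k1⁻¹ * a * k1, h1 a ha, by simp [mul_assoc]⟩

end Cfsg.Agent.PiTwo
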