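import Cfsg.Agent.Lib.PiTwo.Fusion
import Cfsg.Agent.Lib.TwoGroups.NormalFour
import Cfsg.Agent.Lib.SolvCores.Main

/-!
Four-subgroups and a character of a Sylow 2-subgroup invariant under its normaliser: in the minimal
situation every involution of the Sylow subgroup centralises a normal four-subgroup.
-/

set_option autoImplicit false
set_option linter.style.haveILetI false
set_option linter.unusedSectionVars false

namespace Cfsg.Agent.PiTwo

open Subgroup Cfsg.Agent.Signalizer

universe u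

variable {G : Type u} [Group G] [Finite G] {π : Set ℕ}

/-- A four-subgroup. -/
structure Four (A : Subgroup G) : Prop where
  card : Nat.card A = 4
  sq : ∀ a ∈ A, a * a = 1

namespace Four

variable {A : Subgroup G}

theorem comm (hA : Four A) {a b : G} (ha : a ∈ A) (hb : b ∈ A) : a * b = b * a := by
  have h := inv_eq_of_mul_eq_one_right (hA.sq _ (mul_mem ha hb))
  rw [mul_inv_rev, inv_eq_of_mul_eq_one_right (hA.sq a ha), inv_eq_of_mul_eq_one_right (hA.sq b hb)] at h
  exact h.symm

theorem ea (hA : Four A) : Cfsg.IsElementaryAbelian 2 A :=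
  ⟨.of_setLike_mul_comm fun _ ha _ hb => hA.comm ha hb, fun a ha => by rw [pow_two]; exact hA.sq a ha⟩

theorem isPGroup (hA : Four A) : IsPGroup 2 A := IsPGroup.of_card (n := 2) (by rw [hA.card]; norm_num)

theorem order (hA : Four A) {a : G} (ha : a ∈ A) (ha1 : a ≠ 1) : orderOf a = 2 :=
  Invol.order_two_of_sq (hA.sq a ha) ha1

theorem ne_bot (hA : Four A) : A ≠ ⊥ := fun h => by have := hA.card; rw [h, card_bot] at this; omega

theorem cases (hA : Four A) {a b : G} (ha : a ∈ A) (hb : b ∈ A) (ha1 : a ≠ 1) (hb1 : b ≠ 1) (hab : a ≠ b)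
    {x : G} (hx : x ∈ A) : x = 1 ∨ x = a ∨ x = b ∨ x = a * b := by
  classical
  letI : Fintype ↥A := Fintype.ofFinite _
  have h1 : a * b ≠ 1 := fun h => hab ((eq_inv_of_mul_eq_one_left h).trans (inv_eq_of_mul_eq_one_right (hA.sq b hb)))
  have hc : ({1, ⟨a, ha⟩, ⟨b, hb⟩, ⟨a * b, mul_mem ha hb⟩} : Finset ↥A).card = Fintype.card ↥A := by
    rw [← Nat.card_eq_fintype_card, hA.card]
    rw [Finset.card_insert_of_notMem, Finset.card_insert_of_notMem, Finset.card_pair]
    · intro h
      exact ha1 (mul_eq_right.1 (congrArg Subtype.val h).symm)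
    · simp only [Finset.mem_insert, Finset.mem_singleton, Subtype.mk.injEq, not_or]
      exact ⟨hab, fun h => hb1 (mul_eq_left.1 h.symm)⟩
    · simp only [Finset.mem_insert, Finset.mem_singleton, Subtype.ext_iff, OneMemClass.coe_one, not_or]
      exact ⟨ha1.symm, hb1.symm, h1.symm⟩
  have := (Finset.card_eq_iff_eq_univ _).1 hc ▸ Finset.mem_univ (⟨x, hx⟩ : ↥A)
  simpa [Finset.mem_insert, Finset.mem_singleton, Subtype.ext_iff] using this

theorem exists_ne (hA : Four A) {z : G} : ∃ u ∈ A, u ≠ 1 ∧ u ≠ z := by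
  by_contra! h
  have hle : A ≤ zpowers z := fun x hx => by
    by_cases hx1 : x = 1
    · simp [hx1]
    · rw [h x hx hx1]; exact mem_zpowers z
  by_cases hz : z ∈ A
  · have := card_le_of_le hle
    rw [hA.card, Nat.card_zpowers] at this
    by_cases hz1 : z = 1
    · simp [hz1] at this
    · rw [hA.order hz hz1] at this
      omega
  · refine hA.ne_bot (eq_bot_iff.2 fun x hx => ?_)
    by_contra hx1
    rw [mem_bot] at hx1
    exact hz (h x hx hx1 ▸ hx)

theorem map (hA : Four A) (g : G) : Four (A.map (MulAut.conj g).toMonoidHom) :=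
  ⟨by rw [card_map_of_injective (MulAut.conj g).injective, hA.card], by
    rintro _ ⟨a, ha, rfl⟩
    rw [← map_mul, hA.sq a ha, map_one]⟩

end Four

/-- The elements of a Sylow subgroup act on a normal four-subgroup as a group of order at most two. -/
theorem comm_mul_iff (S : Sylow 2 G) {U : Subgroup G} (hU : Four U) (hUS : U ≤ (S : Subgroup G))
    (hn : (S : Subgroup G) ≤ normalizer (U : Set G)) :
    ∀ a ∈ (S : Subgroup G), ∀ b ∈ (S : Subgroup G),
      (a * b ∈ centralizer (U : Set G) ↔ (a ∈ centralizer (U : Set G) ↔ b ∈ centralizer (U : Set G))) := by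
  haveI : Fact (Nat.Prime 2) := ⟨Nat.prime_two⟩
  haveI : (U.subgroupOf (S : Subgroup G)).Normal := normal_subgroupOf_of_le_normalizer hn
  obtain ⟨z, hzU, hzo, hzc⟩ := NormalFour.exists_central_mem S.2
    (N := U.subgroupOf (S : Subgroup G)) fun h => hU.ne_bot (by
      rw [subgroupOf_eq_bot] at h
      exact disjoint_self.1 (h.mono_right hUS))
  have hzU : (z : G) ∈ U := hzU
  have hz1 : (z : G) ≠ 1 := fun h => by
    rw [show z = 1 from Subtype.ext h, orderOf_one] at hzo
    norm_num at hzo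
  obtain ⟨u, huU, hu1, huz⟩ := hU.exists_ne (z := (z : G))
  have hcent : ∀ s ∈ (S : Subgroup G), s * (z : G) * s⁻¹ = z := fun s hs => by
    have := congrArg Subtype.val (Subgroup.mem_center_iff.1 hzc ⟨s, hs⟩)
    simp only [Subgroup.coe_mul] at this
    rw [this, mul_inv_cancel_right]
  have hiff : ∀ s ∈ (S : Subgroup G), s ∈ centralizer (U : Set G) ↔ s * u * s⁻¹ = u := fun s hs => by
    refine ⟨fun h => by rw [← mem_centralizer_iff.1 h u huU, mul_inv_cancel_right], fun h => ?_⟩
    refine mem_centralizer_iff.2 fun x hx => ?_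
    have e1 : Commute s u := mul_inv_eq_iff_eq_mul.1 h
    have e2 : Commute s (z : G) := mul_inv_eq_iff_eq_mul.1 (hcent s hs)
    rcases hU.cases hzU huU hz1 hu1 huz.symm hx with rfl | rfl | rfl | rfl
    · simp
    · exact e2.eq.symm
    · exact e1.eq.symm
    · exact (e2.mul_right e1).eq.symm
  have hmov : ∀ s ∈ (S : Subgroup G), s ∉ centralizer (U : Set G) → s * u * s⁻¹ = (z : G) * u := by
    intro s hs hns
    have hm : s * u * s⁻¹ ∈ U := (mem_normalizer_iff.1 (hn hs) u).1 huU
    rcases hU.cases hzU huU hz1 hu1 huz.symm hm with h | h | h | h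
    · exact absurd (conj_eq_one_iff.1 h) hu1
    · exact absurd (by rw [← hcent s hs] at h; exact mul_left_cancel (mul_right_cancel h)) huz
    · exact absurd ((hiff s hs).2 h) hns
    · exact h
  intro a ha b hb
  have hab : a * b * u * (a * b)⁻¹ = a * (b * u * b⁻¹) * a⁻¹ := by group
  by_cases hbC : b ∈ centralizer (U : Set G)
  · rw [hiff _ (mul_mem ha hb), hiff a ha, hab, (hiff b hb).1 hbC]
    simp [hbC]
  · rw [hiff _ (mul_mem ha hb), hab, hmov b hb hbC,
      show a * ((z : G) * u) * a⁻¹ = (a * z * a⁻¹) * (a * u * a⁻¹) by group, hcent a ha]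
    by_cases haC : a ∈ centralizer (U : Set G)
    · rw [(hiff a ha).1 haC]
      simp [haC, hbC, hz1]
    · rw [hmov a ha haC, ← mul_assoc, hU.sq _ hzU, one_mul]
      simp [haC, hbC]

variable (hm : Minimal π G)
include hm

open Classical in
/-- Every element of the Sylow subgroup centralises one of the normal four-subgroups. -/
theorem exists_centralised (S : Sylow 2 G) {U : Subgroup G} (hU : Four U) (hUS : U ≤ (S : Subgroup G))
    (hn : (S : Subgroup G) ≤ normalizer (U : Set G)) {t : G} (ht : t ∈ (S : Subgroup G)) :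
    ∃ W : Subgroup G, Four W ∧ W ≤ (S : Subgroup G) ∧ (S : Subgroup G) ≤ normalizer (W : Set G) ∧
      t ∈ centralizer (W : Set G) := by
  haveI : Fact (Nat.Prime 2) := ⟨Nat.prime_two⟩
  by_contra hno
  push Not at hno
  set N := normalizer ((S : Subgroup G) : Set G) with hN
  let f : ↥(S : Subgroup G) → ZMod 2 := fun s => if (s : G) ∈ centralizer (U : Set G) then 0 else 1
  have hf : ∀ a b, f (a * b) = f a + f b := fun a b => by
    have h := comm_mul_iff S hU hUS hn a a.2 b b.2
    simp only [f, Subgroup.coe_mul]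
    by_cases ha : (a : G) ∈ centralizer (U : Set G) <;> by_cases hb : (b : G) ∈ centralizer (U : Set G) <;>
      simp [ha, hb, h] <;> rfl
  -- the conjugates
  let cj : ↥N → ↥(S : Subgroup G) → ↥(S : Subgroup G) := fun n s =>
    ⟨(n : G)⁻¹ * s * n, by
      have := (mem_normalizer_iff.1 (inv_mem n.2) (s : G)).1 s.2
      rwa [inv_inv] at this⟩
  have hinv : ∀ (n : ↥N) (σ : ↥N), (σ : G) ∈ (S : Subgroup G) → ∀ s, f (cj (n * σ) s) = f (cj n s) := by
    intro n σ hσ s
    have e : cj (n * σ) s = (⟨σ, hσ⟩⁻¹ : ↥(S : Subgroup G)) * cj n s * ⟨σ, hσ⟩ := Subtype.ext (by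
      show ((n : G) * σ)⁻¹ * s * ((n : G) * σ) = (σ : G)⁻¹ * ((n : G)⁻¹ * s * n) * σ
      group)
    rw [e, hf, hf]
    have h1 : f (⟨σ, hσ⟩⁻¹ : ↥(S : Subgroup G)) + f ⟨σ, hσ⟩ = 0 := by
      rw [← hf, inv_mul_cancel]
      simp [f, one_mem]
    rw [add_right_comm, h1, zero_add]
  set S' := (S : Subgroup G).subgroupOf N with hS'
  letI : Fintype (↥N ⧸ S') := Fintype.ofFinite _
  let χ : ↥(S : Subgroup G) → ZMod 2 := fun s => ∑ c : ↥N ⧸ S', f (cj c.out s)
  have hχ : ∀ a b, χ (a * b) = χ a + χ b := fun a b => by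
    simp only [χ, ← Finset.sum_add_distrib]
    refine Finset.sum_congr rfl fun c _ => ?_
    rw [← hf]
    congr 1
    apply Subtype.ext
    show (c.out : G)⁻¹ * ((a : G) * b) * c.out = (c.out : G)⁻¹ * a * c.out * ((c.out : G)⁻¹ * b * c.out)
    group
  have hχinv : ∀ (n : ↥N) (s : ↥(S : Subgroup G)), χ (cj n s) = χ s := by
    intro n s
    simp only [χ]
    refine Fintype.sum_equiv (MulAction.toPerm n) _ _ fun c => ?_
    obtain ⟨σ, hσ⟩ := QuotientGroup.mk_out_eq_mul S' (n * c.out)
    have hc : (MulAction.toPerm n c : ↥N ⧸ S') = ((n * c.out : ↥N) : ↥N ⧸ S') := by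
      rw [MulAction.toPerm_apply, ← smul_eq_mul, ← MulAction.Quotient.smul_mk, QuotientGroup.out_eq']
    rw [hc, hσ, hinv _ _ σ.2]
    congr 1
    apply Subtype.ext
    show (c.out : G)⁻¹ * ((n : G)⁻¹ * s * n) * c.out = ((n : G) * c.out)⁻¹ * s * ((n : G) * c.out)
    group
  -- the value at the bad element
  have hχt : χ ⟨t, ht⟩ = 1 := by
    have hone : ∀ c : ↥N ⧸ S', f (cj c.out ⟨t, ht⟩) = 1 := by
      intro c
      have hc : (c.out : G) ∈ normalizer ((S : Subgroup G) : Set G) := c.out.2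
      refine if_neg fun hmem => hno _ (hU.map (c.out : G)) ?_ ?_ ?_
      · rintro _ ⟨x, hx, rfl⟩
        exact (mem_normalizer_iff.1 hc x).1 (hUS hx)
      · have h1 : (S : Subgroup G).map (MulAut.conj (c.out : G)).toMonoidHom = S :=
          mem_normalizer_iff_map_conj_eq.1 hc
        rw [← h1]
        refine (map_mono hn).trans ?_
        exact (Subgroup.map_equiv_normalizer_eq U (MulAut.conj (c.out : G))).le
      · refine mem_centralizer_iff.2 ?_
        rintro _ ⟨x, hx, rfl⟩
        have h := mem_centralizer_iff.1 hmem x hx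
        simp only [cj] at h
        simp only [MulEquiv.toMonoidHom_eq_coe, MonoidHom.coe_coe, MulAut.conj_apply]
        calc (c.out : G) * x * (c.out : G)⁻¹ * t
            = (c.out : G) * (x * ((c.out : G)⁻¹ * t * c.out)) * (c.out : G)⁻¹ := by group
          _ = (c.out : G) * ((c.out : G)⁻¹ * t * c.out * x) * (c.out : G)⁻¹ := by rw [h]
          _ = _ := by group
    simp only [χ, hone, Finset.sum_const, Finset.card_univ, nsmul_eq_mul, mul_one]
    have hr : ¬ 2 ∣ Fintype.card (↥N ⧸ S') := by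
      rw [← Nat.card_eq_fintype_card]
      exact (S.subtype le_normalizer).not_dvd_index
    exact ZMod.natCast_eq_one_iff_odd.2 (Nat.odd_iff.2 (by omega))
  have hχ1 : χ 1 = 0 := by
    have h := hχ 1 1
    rw [mul_one] at h
    exact left_eq_add.1 h
  let K0 : Subgroup ↥(S : Subgroup G) :=
    { carrier := {s | χ s = 0}
      one_mem' := hχ1
      mul_mem' := fun {a b} (ha : χ a = 0) (hb : χ b = 0) => by show χ (a * b) = 0; rw [hχ, ha, hb, add_zero]
      inv_mem' := fun {a} (ha : χ a = 0) => by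
        show χ a⁻¹ = 0
        have h := hχ a⁻¹ a
        rw [inv_mul_cancel, hχ1, ha, add_zero] at h
        exact h.symm }
  refine hm.no_focal S (K0.map (S : Subgroup G).subtype) (fun hle => ?_) fun x hx g hg => ?_
  · obtain ⟨s, hs, hst⟩ := hle ht
    have : s = ⟨t, ht⟩ := Subtype.ext hst
    subst this
    exact zero_ne_one (hs.symm.trans hχt)
  · obtain ⟨n, hnN, hnx⟩ := hm.control S (zpowers x) (zpowers_le.2 hx) g (by
      rintro _ ⟨i, rfl⟩
      have := zpow_mem hg i
      rwa [conj_zpow] at this)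
    refine ⟨⟨x⁻¹ * (g * x * g⁻¹), mul_mem (inv_mem hx) hg⟩, ?_, rfl⟩
    show χ ⟨x⁻¹ * (g * x * g⁻¹), _⟩ = 0
    have e : (⟨x⁻¹ * (g * x * g⁻¹), mul_mem (inv_mem hx) hg⟩ : ↥(S : Subgroup G)) =
        (⟨x, hx⟩ : ↥(S : Subgroup G))⁻¹ * cj ⟨n⁻¹, inv_mem hnN⟩ ⟨x, hx⟩ := Subtype.ext (by
      show x⁻¹ * (g * x * g⁻¹) = x⁻¹ * ((n⁻¹)⁻¹ * x * n⁻¹)
      rw [inv_inv, hnx x (mem_zpowers x)])
    rw [e, hχ, hχinv, ← hχ, inv_mul_cancel, hχ1]

end Cfsg.Agent.PiTwo
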