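import Cfsg.Agent.Lib.PiTwo.Basic
import Cfsg.Agent.Lib.Transfer.Fusion
import Mathlib.GroupTheory.Focal
import Mathlib.GroupTheory.Subgroup.Simple

/-!
A minimal simple counterexample: the normaliser of a Sylow 2-subgroup controls the fusion in it.
-/

set_option autoImplicit false
set_option linter.style.haveILetI false
set_option linter.unusedSectionVars false

open scoped Pointwise commutatorElement

namespace Cfsg.Agent.PiTwo

open Subgroup

universe u

variable {G : Type u} [Group G] [Finite G] {π : Set ℕ}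

/-- The situation of a simple group whose proper subgroups are π'-closed. -/
structure Minimal (π : Set ℕ) (G : Type u) [Group G] : Prop where
  tc : TwoClosed π G
  simple : IsSimpleGroup G
  nonab : ¬ IsMulCommutative G
  proper : ∀ X : Subgroup G, X ≠ ⊤ → Closed π X

theorem zpowers_two {t : G} (ht : orderOf t = 2) : IsPGroup 2 ↥(zpowers t) :=
  IsPGroup.of_card (n := 1) (by rw [Nat.card_zpowers, ht, pow_one])

theorem exists_conj_mem_sylow (S : Sylow 2 G) {A : Subgroup G} (hA : IsPGroup 2 A) :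
    ∃ g : G, ∀ a ∈ A, g * a * g⁻¹ ∈ (S : Subgroup G) := by
  haveI : Fact (Nat.Prime 2) := ⟨Nat.prime_two⟩
  obtain ⟨R, hR⟩ := hA.exists_le_sylow
  obtain ⟨g, hg⟩ := MulAction.exists_smul_eq G R S
  refine ⟨g, fun a ha => ?_⟩
  rw [← hg, Sylow.coe_subgroup_smul]
  exact Subgroup.smul_mem_pointwise_smul a (MulAut.conj g) _ (hR ha)

namespace Minimal

variable (hm : Minimal π G)
include hm

theorem ne_top_of_isPGroup {p : ℕ} [Fact p.Prime] {A : Subgroup G} (hA : IsPGroup p A) : A ≠ ⊤ := by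
  haveI := hm.simple
  intro h
  have hp : IsPGroup p G := by
    rw [h] at hA
    exact hA.of_equiv Subgroup.topEquiv
  haveI : Nontrivial G := IsSimpleGroup.toNontrivial
  haveI := hp.center_nontrivial
  rcases (inferInstance : (center G).Normal).eq_bot_or_eq_top with e | e
  · exact (Subgroup.nontrivial_iff_ne_bot _).1 ‹_› e
  · exact hm.nonab ⟨⟨fun a b => mem_center_iff.1 (e.ge (mem_top b)) a⟩⟩

theorem center_eq_bot : center G = ⊥ := by
  haveI := hm.simple
  rcases (inferInstance : (center G).Normal).eq_bot_or_eq_top with e | e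
  · exact e
  · exact absurd ⟨⟨fun a b => mem_center_iff.1 (e.ge (mem_top b)) a⟩⟩ hm.nonab

theorem commutator_eq_top : _root_.commutator G = ⊤ := by
  haveI := hm.simple
  rcases (inferInstance : (_root_.commutator G).Normal).eq_bot_or_eq_top with e | e
  · refine absurd ⟨⟨fun a b => ?_⟩⟩ hm.nonab
    exact commutatorElement_eq_one_iff_mul_comm.1
      (mem_bot.1 (e.le (commutator_mem_commutator (mem_top a) (mem_top b))))
  · exact e

theorem normalizer_ne_top {A : Subgroup G} (hA : A ≠ ⊥) (hA' : A ≠ ⊤) :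
    normalizer (A : Set G) ≠ ⊤ := by
  haveI := hm.simple
  intro h
  exact ((normalizer_eq_top_iff.1 h).eq_bot_or_eq_top).elim hA hA'

theorem centralizer_ne_top {A : Subgroup G} (hA : A ≠ ⊥) : centralizer (A : Set G) ≠ ⊤ := by
  intro h
  refine hA (eq_bot_iff.2 fun a ha => ?_)
  rw [← hm.center_eq_bot]
  exact mem_center_iff.2 fun g => (mem_centralizer_iff.1 (h.ge (mem_top g)) a ha).symm

theorem closed_cent {x : G} (hx : x ≠ 1) : Closed π (centralizer ({x} : Set G)) := by
  refine hm.proper _ fun h => hx ?_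
  rw [← Subgroup.mem_bot, ← hm.center_eq_bot]
  exact mem_center_iff.2 fun g => mem_centralizer_singleton_iff.1 (h.ge (mem_top g))

theorem closed_two {p : ℕ} [Fact p.Prime] {A : Subgroup G} (hA : IsPGroup p A) (hA1 : A ≠ ⊥) :
    Closed π (normalizer (A : Set G)) :=
  hm.proper _ (hm.normalizer_ne_top hA1 (hm.ne_top_of_isPGroup hA))

theorem exists_involution : ∃ t : G, orderOf t = 2 := by
  haveI := hm.simple
  haveI : Fact (Nat.Prime 2) := ⟨Nat.prime_two⟩
  refine exists_prime_orderOf_dvd_card' 2 ?_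
  by_contra h
  have hs : Group.IsSolvable G := S0205.result (Nat.odd_iff.2 (by omega))
  exact hm.nonab ⟨⟨fun a b => IsSimpleGroup.comm_iff_isSolvable.2 hs a b⟩⟩

theorem sylow_ne_bot (S : Sylow 2 G) : (S : Subgroup G) ≠ ⊥ := by
  obtain ⟨t, ht⟩ := hm.exists_involution
  obtain ⟨g, hg⟩ := exists_conj_mem_sylow S (zpowers_two ht)
  intro h
  have := mem_bot.1 (h.le (hg t (mem_zpowers t)))
  rw [conj_eq_one_iff] at this
  rw [this, orderOf_one] at ht
  norm_num at ht

/-- The normaliser of a Sylow 2-subgroup controls the fusion in it. -/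
theorem control (S : Sylow 2 G) (D : Subgroup G) (hD : D ≤ (S : Subgroup G)) (g : G)
    (hg : ∀ x ∈ D, g * x * g⁻¹ ∈ (S : Subgroup G)) :
    ∃ n ∈ normalizer ((S : Subgroup G) : Set G), ∀ x ∈ D, n * x * n⁻¹ = g * x * g⁻¹ := by
  haveI : Fact (Nat.Prime 2) := ⟨Nat.prime_two⟩
  induction hk : Nat.card (S : Subgroup G) - Nat.card D using Nat.strong_induction_on generalizing D g with
  | _ k ih =>
    rcases eq_or_ne D ⊥ with rfl | hD1
    · exact ⟨1, one_mem _, fun x hx => by rw [mem_bot.1 hx]; group⟩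
    rcases eq_or_lt_of_le hD with rfl | hlt
    · refine ⟨g, ?_, fun x _ => rfl⟩
      rw [mem_normalizer_iff_map_conj_eq]
      refine eq_of_le_of_card_ge ?_ (card_map_of_injective (MulAut.conj g).injective).ge
      rintro _ ⟨x, hx, rfl⟩
      exact hg x hx
    set c := (MulAut.conj g).toMonoidHom
    set D' := D.map c with hD'
    have hD'S : D' ≤ (S : Subgroup G) := by
      rintro _ ⟨x, hx, rfl⟩
      exact hg x hx
    have hD'c : Nat.card ↥D' = Nat.card ↥D := card_map_of_injective (MulAut.conj g).injective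
    have hD'1 : D' ≠ ⊥ := fun e => hD1 (by rwa [hD', map_eq_bot_iff_of_injective _ (MulAut.conj g).injective] at e)
    have hD'p : IsPGroup 2 ↥D' := S.2.to_le hD'S
    have hD'lt : D' < (S : Subgroup G) := lt_of_le_of_ne hD'S fun e => by
      rw [e] at hD'c
      exact hlt.ne (eq_of_le_of_card_ge hD hD'c.le)
    set X := normalizer (D' : Set G) with hX
    have hXc : Closed π X := hm.closed_two hD'p hD'1
    set E := (S : Subgroup G) ⊓ normalizer (D : Set G) with hE
    set E' := (S : Subgroup G) ⊓ X with hE'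
    have hDE : D < E := Fusion.lt_inf_normalizer (Fusion.sylow_isNilpotent S) hlt
    have hDE' : D' < E' := Fusion.lt_inf_normalizer (Fusion.sylow_isNilpotent S) hD'lt
    have hEX : E.map c ≤ X := by
      refine (map_mono inf_le_right).trans ?_
      rw [hX, hD']
      exact (Subgroup.map_equiv_normalizer_eq D (MulAut.conj g)).le
    obtain ⟨k0, hk0, R, hR, -, hBR, hAR⟩ := hXc.exists_join hm.tc ((S.2.to_le inf_le_left).map c)
      (S.2.to_le (inf_le_left : E' ≤ _)) hEX inf_le_right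
    obtain ⟨r, hr⟩ := exists_conj_mem_sylow S hR
    have hlt' : ∀ {A B : Subgroup G}, A < B → Nat.card A < Nat.card B := fun {A B} h => by
      by_contra hge
      exact h.ne (eq_of_le_of_card_ge h.le (not_lt.1 hge))
    have hmono : Nat.card ↥E' ≤ Nat.card (S : Subgroup G) :=
      Nat.le_of_dvd Nat.card_pos (card_dvd_of_le inf_le_left)
    have hmono' : Nat.card ↥E ≤ Nat.card (S : Subgroup G) :=
      Nat.le_of_dvd Nat.card_pos (card_dvd_of_le inf_le_left)
    obtain ⟨n1, hn1, h1⟩ := ih (Nat.card (S : Subgroup G) - Nat.card ↥E')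
      (by have := hlt' hDE'; omega) E' inf_le_left r (fun x hx => hr x (hBR hx)) rfl
    obtain ⟨n2, hn2, h2⟩ := ih (Nat.card (S : Subgroup G) - Nat.card ↥E)
      (by have := hlt' hDE; omega) E inf_le_left (r * k0 * g) (fun x hx => by
        have := hr _ (hAR _ ⟨x, hx, rfl⟩)
        simp only [c, MulEquiv.toMonoidHom_eq_coe, MonoidHom.coe_coe, MulAut.conj_apply] at this
        rwa [show r * k0 * g * x * (r * k0 * g)⁻¹ = r * (k0 * (g * x * g⁻¹) * k0⁻¹) * r⁻¹ by group]) rfl
    refine ⟨n1⁻¹ * n2, mul_mem (inv_mem hn1) hn2, fun x hx => ?_⟩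
    have hy : g * x * g⁻¹ ∈ D' := ⟨x, hx, rfl⟩
    have hky : k0 * (g * x * g⁻¹) * k0⁻¹ = g * x * g⁻¹ := by
      rw [core_centralizes hXc (PiSub.of_isPGroup hD'p hm.tc.two) le_normalizer hk0 hy
        ((mem_normalizer_iff.1 (core_le X hk0) _).1 hy), mul_inv_cancel_right]
    have e1 := h1 _ (hDE'.le hy)
    have e2 := h2 x (hDE.le hx)
    calc n1⁻¹ * n2 * x * (n1⁻¹ * n2)⁻¹ = n1⁻¹ * (n2 * x * n2⁻¹) * n1 := by group
      _ = n1⁻¹ * (r * (k0 * (g * x * g⁻¹) * k0⁻¹) * r⁻¹) * n1 := by rw [e2]; group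
      _ = n1⁻¹ * (n1 * (g * x * g⁻¹) * n1⁻¹) * n1 := by rw [hky, e1]
      _ = g * x * g⁻¹ := by group

/-- No subgroup of a Sylow subgroup takes up its fusion. -/
theorem no_focal {p : ℕ} [Fact p.Prime] (P : Sylow p G) (P₀ : Subgroup G) (hP : ¬ (P : Subgroup G) ≤ P₀)
    (h : ∀ x ∈ (P : Subgroup G), ∀ g : G, g * x * g⁻¹ ∈ (P : Subgroup G) → x⁻¹ * (g * x * g⁻¹) ∈ P₀) :
    False := by
  apply hP
  have hf : (P : Subgroup G).focalSubgroup ≤ P₀ := by
    rw [focalSubgroup_def, closure_le]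
    rintro _ ⟨hmem, x, hx, g, rfl⟩
    have h1 : g * x⁻¹ * g⁻¹ ∈ (P : Subgroup G) := by
      have := mul_mem (inv_mem hx) hmem
      rwa [commutatorElement_def, show x⁻¹ * (x * g * x⁻¹ * g⁻¹) = g * x⁻¹ * g⁻¹ by group] at this
    have := h x⁻¹ (inv_mem hx) g h1
    rwa [inv_inv, show x * (g * x⁻¹ * g⁻¹) = ⁅x, g⁆ by rw [commutatorElement_def]; group] at this
  rw [← commutator_inf_eq_focalSubgroup, hm.commutator_eq_top, top_inf_eq] at hf
  exact hf

end Minimal

end Cfsg.Agent.PiTwo
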