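import Cfsg.Agent.Lib.PiTwo.Four
import Cfsg.Agent.Lib.FiniteGroup.FrattiniAut

/-!
Sylow 2-subgroups of π'-closed subgroups: conjugated frames, Sylow subgroups fixed by π-groups of odd
order, and the criterion for a normal 2-complement.
-/

set_option autoImplicit false
set_option linter.style.haveILetI false
set_option linter.unusedSectionVars false

open scoped Pointwise

namespace Cfsg.Agent.PiTwo

open Subgroup

universe u

variable {G : Type u} [Group G] [Finite G] {π : Set ℕ}

/-- Conjugation of a frame by an element of the core. -/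
theorem Frame.conj {X H T : Subgroup G} (f : Frame π X H T) {k : G} (hk : k ∈ core π X) :
    Frame π X (H.map (MulAut.conj k).toMonoidHom) (T.map (MulAut.conj k).toMonoidHom) := by
  refine ⟨?_, ?_, f.two.map _, map_mono f.tle, ?_, ?_, ?_, ?_⟩
  · rintro _ ⟨y, hy, rfl⟩
    exact mul_mem (mul_mem (core_le X hk) (f.le hy)) (inv_mem (core_le X hk))
  · intro p hp hd
    rw [card_map_of_injective (MulAut.conj k).injective] at hd
    exact f.pi p hp hd
  · exact (map_mono f.norm).trans (Subgroup.map_equiv_normalizer_eq T (MulAut.conj k)).le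
  · intro x hx
    obtain ⟨k0, hk0, y, hy, e⟩ := f.decomp (k⁻¹ * x * k)
      (mul_mem (mul_mem (inv_mem (core_le X hk)) hx) (core_le X hk))
    refine ⟨k * k0 * k⁻¹, mul_mem (mul_mem hk hk0) (inv_mem hk), k * y * k⁻¹, ⟨y, hy, rfl⟩, ?_⟩
    calc x = k * (k⁻¹ * x * k) * k⁻¹ := by group
      _ = _ := by rw [e]; group
  · rw [card_map_of_injective (MulAut.conj k).injective]; exact f.card
  · rw [relIndex_map_map_of_injective _ _ (MulAut.conj k).injective]; exact f.odd

/-- A frame around a Sylow 2-subgroup of the group. -/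
theorem exists_frame_sylow (h : TwoClosed π G) {X : Subgroup G} (hX : Closed π X) (S : Sylow 2 G)
    (hS : (S : Subgroup G) ≤ X) : ∃ H, Frame π X H (S : Subgroup G) := by
  haveI : Fact (Nat.Prime 2) := ⟨Nat.prime_two⟩
  obtain ⟨H, T, f⟩ := hX.exists_frame h
  obtain ⟨k, hk, hkS⟩ := f.conj_into h hX S.2 hS
  have hle : (S : Subgroup G) ≤ T.map (MulAut.conj k).toMonoidHom := fun s hs =>
    ⟨k⁻¹ * s * k, hkS s hs, by simp [mul_assoc]⟩
  have e : T.map (MulAut.conj k).toMonoidHom = (S : Subgroup G) := S.3 (f.two.map _) hle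
  exact ⟨_, e ▸ f.conj hk⟩

/-- A group of π-prime power order normalising a π'-closed subgroup fixes one of its Sylow 2-subgroups. -/
theorem exists_fixed_sylow (h : TwoClosed π G) {X : Subgroup G} (hX : Closed π X) {r : ℕ} [Fact r.Prime]
    (hr : r ∈ π) {R : Subgroup G} (hR : IsPGroup r R) (hRX : R ≤ normalizer (X : Set G)) :
    ∃ T : Subgroup G, IsPGroup 2 T ∧ T ≤ X ∧ ¬ 2 ∣ T.relIndex X ∧ R ≤ normalizer (T : Set G) := by
  classical
  haveI : Fact (Nat.Prime 2) := ⟨Nat.prime_two⟩
  obtain ⟨H, T₀, f⟩ := hX.exists_frame h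
  let Ω := {T : Subgroup G // IsPGroup 2 T ∧ T ≤ X ∧ ¬ 2 ∣ T.relIndex X}
  have hinv : ∀ g ∈ R, ∀ T : Ω, IsPGroup 2 ↥(MulAut.conj g • T.1) ∧ MulAut.conj g • T.1 ≤ X ∧
      ¬ 2 ∣ (MulAut.conj g • T.1).relIndex X := by
    intro g hg T
    have hXg : X.map (MulAut.conj g).toMonoidHom = X := mem_normalizer_iff_map_conj_eq.1 (hRX hg)
    refine ⟨T.2.1.map _, ?_, ?_⟩
    · show T.1.map (MulAut.conj g).toMonoidHom ≤ X
      exact (map_mono T.2.2.1).trans hXg.le
    · show ¬ 2 ∣ (T.1.map (MulAut.conj g).toMonoidHom).relIndex X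
      refine fun hd => T.2.2.2 ?_
      rwa [← relIndex_map_map_of_injective _ _ (f := (MulAut.conj g).toMonoidHom) (MulAut.conj g).injective, hXg]
  letI : MulAction ↥R Ω :=
    { smul := fun g T => ⟨MulAut.conj (g : G) • T.1, hinv g g.2 T⟩
      one_smul := fun T => Subtype.ext (by
        show MulAut.conj ((1 : ↥R) : G) • T.1 = T.1
        rw [OneMemClass.coe_one, map_one, one_smul])
      mul_smul := fun a b T => Subtype.ext (by
        show MulAut.conj ((a * b : ↥R) : G) • T.1 = MulAut.conj (a : G) • MulAut.conj (b : G) • T.1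
        rw [Subgroup.coe_mul, map_mul, mul_smul]) }
  let e : Ω ≃ Sylow 2 ↥X :=
    { toFun := fun T => (T.2.1.comap_subtype (K := X)).toSylow T.2.2.2
      invFun := fun P => ⟨(P : Subgroup ↥X).map X.subtype, P.2.map _, map_subtype_le _, by
        rw [relIndex, show ((P : Subgroup ↥X).map X.subtype).subgroupOf X = (P : Subgroup ↥X) from
          comap_map_eq_self_of_injective X.subtype_injective _]
        exact P.not_dvd_index⟩
      left_inv := fun T => Subtype.ext (map_subgroupOf_eq_of_le T.2.2.1)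
      right_inv := fun P => Sylow.ext (comap_map_eq_self_of_injective X.subtype_injective _) }
  have hdvd : Nat.card Ω ∣ Nat.card ↥(core π X) := by
    let P := e ⟨T₀, f.two, f.tX, f.odd_relIndex h hX⟩
    rw [Nat.card_congr e, P.card_eq_index_normalizer]
    have h1 : H.subgroupOf X ≤ normalizer ((P : Subgroup ↥X) : Set ↥X) := fun x hx =>
      mem_normalizer_iff.2 fun y => (mem_normalizer_iff.1 (f.norm hx) (y : G))
    refine (index_dvd_of_le h1).trans ?_
    show H.relIndex X ∣ _
    have h2 := PBasic.card_mul_relIndex f.le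
    rw [f.card, mul_comm (Nat.card ↥(core π X))] at h2
    rw [Nat.eq_of_mul_eq_mul_left Nat.card_pos h2]
  obtain ⟨T, hT⟩ := hR.nonempty_fixed_point_of_prime_not_dvd_card Ω
    (fun hd => hX.not_mem_pi Fact.out (hd.trans hdvd) hr)
  refine ⟨T.1, T.2.1, T.2.2.1, T.2.2.2, fun g hg => ?_⟩
  rw [mem_normalizer_iff_map_conj_eq]
  exact congrArg Subtype.val (MulAction.mem_fixedPoints.1 hT ⟨g, hg⟩)

/-- An element of prime-power order prime to 6 normalising a four-subgroup centralises it. -/
theorem Four.centralised {A : Subgroup G} (hA : Four A) {r : ℕ} [Fact r.Prime] (hr : 3 < r) {g : G}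
    (hg : IsPGroup r ↥(zpowers g)) (hgn : g ∈ normalizer (A : Set G)) : g ∈ centralizer (A : Set G) := by
  classical
  let M := {a : ↥A // a ≠ 1}
  have hnm : ∀ q : ↥(zpowers g), (q : G) ∈ normalizer (A : Set G) := fun q =>
    zpowers_le.2 hgn q.2
  letI : MulAction ↥(zpowers g) M :=
    { smul := fun q a => ⟨⟨(q : G) * a.1 * (q : G)⁻¹, (mem_normalizer_iff.1 (hnm q) _).1 a.1.2⟩,
        fun e => a.2 (Subtype.ext (conj_eq_one_iff.1 (congrArg Subtype.val e)))⟩
      one_smul := fun a => Subtype.ext (Subtype.ext (by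
        show ((1 : ↥(zpowers g)) : G) * a.1 * ((1 : ↥(zpowers g)) : G)⁻¹ = a.1
        simp))
      mul_smul := fun q q' a => Subtype.ext (Subtype.ext (by
        show ((q * q' : ↥(zpowers g)) : G) * a.1 * ((q * q' : ↥(zpowers g)) : G)⁻¹ =
          (q : G) * ((q' : G) * a.1 * (q' : G)⁻¹) * (q : G)⁻¹
        rw [Subgroup.coe_mul]; group)) }
  have hM : Nat.card M = 3 := by
    letI : Fintype ↥A := Fintype.ofFinite _
    rw [Nat.card_eq_fintype_card, Fintype.card_subtype_compl, Fintype.card_subtype_eq, ← Nat.card_eq_fintype_card,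
      hA.card]
  have hmod := hg.card_modEq_card_fixedPoints M
  have hle : Nat.card (MulAction.fixedPoints ↥(zpowers g) M) ≤ 3 := hM ▸ Finite.card_subtype_le _
  rw [hM] at hmod
  have hfix : Nat.card (MulAction.fixedPoints ↥(zpowers g) M) = 3 :=
    (Nat.ModEq.eq_of_lt_of_lt hmod hr (by omega)).symm
  have huniv : MulAction.fixedPoints ↥(zpowers g) M = Set.univ := by
    refine Set.eq_of_subset_of_ncard_le (Set.subset_univ _) ?_ Set.finite_univ
    rw [Set.ncard_univ, hM, ← Nat.card_coe_set_eq, hfix]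
  refine mem_centralizer_iff.2 fun a ha => ?_
  by_cases ha1 : a = 1
  · simp [ha1]
  · have h1 := MulAction.mem_fixedPoints.1
      (huniv ▸ Set.mem_univ (⟨⟨a, ha⟩, fun e => ha1 (congrArg Subtype.val e)⟩ : M)) ⟨g, mem_zpowers g⟩
    have h2 : g * a * g⁻¹ = a := congrArg (fun x : M => (x.1 : G)) h1
    exact (mul_inv_eq_iff_eq_mul.1 h2).symm

/-- A π'-closed subgroup has a normal 2-complement when the elements of odd prime-power order normalising a
Sylow 2-subgroup of it centralise that subgroup. -/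
theorem hasNormalPComplement_of_frame (h : TwoClosed π G) {X H T : Subgroup G} (hX : Closed π X)
    (f : Frame π X H T)
    (hT : ∀ r : ℕ, r.Prime → r ≠ 2 → r ∈ π → ∀ y ∈ X, y ∈ normalizer (T : Set G) →
      (∃ a, orderOf y = r ^ a) → y ∈ centralizer (T : Set G)) :
    Cfsg.HasNormalPComplement 2 ↥X := by
  haveI : Fact (Nat.Prime 2) := ⟨Nat.prime_two⟩
  haveI : (T.subgroupOf H).Normal := (normal_subgroupOf_iff_le_normalizer f.tle).2 f.norm
  obtain ⟨n, hn⟩ := IsPGroup.iff_card.1 f.two
  have hTc : Nat.card ↥(T.subgroupOf H) = 2 ^ n := (Nat.card_congr (subgroupOfEquivOfLe f.tle).toEquiv).trans hn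
  obtain ⟨D, hD⟩ := exists_right_complement'_of_coprime (N := T.subgroupOf H)
    (by rw [hTc]; exact Nat.Coprime.pow_left n (Nat.prime_two.coprime_iff_not_dvd.2 f.odd))
  have hDodd : ¬ 2 ∣ Nat.card ↥D := by
    have : Nat.card ↥D = T.relIndex H :=
      Nat.eq_of_mul_eq_mul_left (Nat.card_pos (α := ↥(T.subgroupOf H)))
        (hD.card_mul_card.trans (card_mul_index _).symm)
    rw [this]
    exact f.odd
  set D' := D.map H.subtype with hD'
  have hD'X : D' ≤ X := (map_subtype_le _).trans f.le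
  -- the complement centralises T
  have hcent : D' ≤ centralizer (T : Set G) := by
    rintro _ ⟨d, hd, rfl⟩
    have key : ∀ m : ℕ, ∀ y : G, y ∈ D' → orderOf y = m → y ∈ centralizer (T : Set G) := by
      intro m
      induction m using Nat.strong_induction_on with
      | _ m ih =>
        intro y hy hm
        by_cases hm1 : m = 1
        · rw [orderOf_eq_one_iff.1 (hm.trans hm1)]; exact one_mem _
        obtain ⟨r, hr, hrd⟩ := Nat.exists_prime_and_dvd hm1
        haveI : Fact r.Prime := ⟨hr⟩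
        obtain ⟨a, q, hq, he⟩ := Nat.exists_eq_pow_mul_and_not_dvd (hm ▸ (orderOf_pos y).ne' : m ≠ 0) r hr.ne_one
        have hdD : orderOf y ∣ Nat.card ↥D := by
          rw [← card_map_of_injective (K := D) H.subtype_injective]
          exact Subgroup.orderOf_dvd_natCard D' hy
        have hr2 : r ≠ 2 := fun e => hDodd (e ▸ (hrd.trans (hm ▸ hdD)))
        have hrπ : r ∈ π := f.pi r hr (hrd.trans (hm ▸ Subgroup.orderOf_dvd_natCard H (map_subtype_le _ hy)))
        by_cases hq1 : q = 1
        · exact hT r hr hr2 hrπ y (hD'X hy) (f.norm (map_subtype_le _ hy)) ⟨a, by rw [hm, he, hq1, mul_one]⟩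
        · have ha : a ≠ 0 := fun e => by
            rw [e, pow_zero, one_mul] at he
            exact hq (he ▸ hrd)
          have hq0 : 0 < q := Nat.pos_of_ne_zero fun e => hq (e ▸ dvd_zero r)
          have hy1 : y ^ q ∈ centralizer (T : Set G) := by
            refine hT r hr hr2 hrπ _ (pow_mem (hD'X hy) q) (pow_mem (f.norm (map_subtype_le _ hy)) q) ⟨a, ?_⟩
            rw [orderOf_pow_of_dvd hq0.ne' (hm ▸ he ▸ dvd_mul_left q _), hm, he, Nat.mul_div_cancel _ hq0]
          have hy2 : y ^ r ^ a ∈ centralizer (T : Set G) := by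
            refine ih q ?_ _ (pow_mem hy _) ?_
            · rw [he]
              exact lt_mul_of_one_lt_left hq0 (Nat.one_lt_pow ha hr.one_lt)
            · rw [orderOf_pow_of_dvd (pow_ne_zero _ hr.pos.ne') (hm ▸ he ▸ dvd_mul_right _ q), hm, he,
                Nat.mul_div_cancel_left _ (pow_pos hr.pos a)]
          have h3 := mul_mem (zpow_mem hy1 (Nat.gcdA q (r ^ a))) (zpow_mem hy2 (Nat.gcdB q (r ^ a)))
          rw [← zpow_natCast y q, ← zpow_natCast y (r ^ a), ← zpow_mul, ← zpow_mul, ← zpow_add,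
            ← Nat.gcd_eq_gcd_ab] at h3
          rwa [show Nat.gcd q (r ^ a) = 1 from Nat.Coprime.pow_right a ((hr.coprime_iff_not_dvd.2 hq).symm),
            Nat.cast_one, zpow_one] at h3
    exact key _ _ ⟨d, hd, rfl⟩ rfl
  -- inside the subgroup
  set K := (core π X).subgroupOf X
  haveI : K.Normal := (normal_subgroupOf_iff_le_normalizer (core_le X)).2 (le_normalizer_core X)
  set N := K ⊔ D'.subgroupOf X with hN
  set T' := T.subgroupOf X
  have hgen : N ⊔ T' = ⊤ := by
    refine eq_top_iff.2 fun x _ => ?_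
    obtain ⟨k, hk, y, hy, e⟩ := f.decomp x x.2
    have hyH : (⟨y, hy⟩ : ↥H) ∈ T.subgroupOf H ⊔ D := hD.sup_eq_top ▸ mem_top _
    obtain ⟨t, ht, d, hd, htd⟩ := mem_sup_of_normal_left.1 hyH
    have hx : x = ⟨k, core_le X hk⟩ * (⟨(t : G), f.tX ht⟩ * ⟨(d : G), hD'X ⟨d, hd, rfl⟩⟩) :=
      Subtype.ext (by
        show (x : G) = k * ((t : G) * (d : G))
        rw [e, show ((t : G) * (d : G)) = y from congrArg Subtype.val htd])
    rw [hx]
    refine mul_mem (mem_sup_left (mem_sup_left ?_)) (mul_mem (mem_sup_right ?_) (mem_sup_left (mem_sup_right ?_)))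
    · exact hk
    · exact ht
    · exact ⟨d, hd, rfl⟩
  haveI hNn : N.Normal := by
    rw [← normalizer_eq_top_iff, eq_top_iff, ← hgen]
    refine sup_le le_normalizer ?_
    intro t ht
    rw [mem_normalizer_iff_map_conj_eq, hN, Subgroup.map_sup]
    congr 1
    · exact mem_normalizer_iff_map_conj_eq.1 (by rw [normalizer_eq_top_iff.2 ‹K.Normal›]; exact mem_top t)
    · have hc : ∀ x : ↥X, x ∈ D'.subgroupOf X → t * x * t⁻¹ = x := fun x hx => Subtype.ext (by
        show (t : G) * x * (t : G)⁻¹ = x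
        rw [show (t : G) * (x : G) = x * t from mem_centralizer_iff.1 (hcent hx) (t : G) ht, mul_inv_cancel_right])
      ext x
      constructor
      · rintro ⟨z, hz, rfl⟩
        show t * z * t⁻¹ ∈ _
        rw [hc z hz]; exact hz
      · intro hx
        exact ⟨x, hx, hc x hx⟩
  refine PBasic.hasNormalPComplement_iff.2 ⟨N, hNn, ?_, ?_⟩
  · have hKodd : ¬ 2 ∣ Nat.card ↥K := by
      rw [Nat.card_congr (subgroupOfEquivOfLe (core_le X)).toEquiv]
      exact (hX.odd_core h).not_two_dvd_nat
    have h1 := PBasic.card_mul_relIndex (le_sup_left : K ≤ N)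
    have h2 : K.relIndex N = K.relIndex (D'.subgroupOf X) := by rw [hN, sup_comm, relIndex_sup_right]
    rw [h2] at h1
    rw [Nat.coprime_two_right, ← Nat.not_even_iff_odd, even_iff_two_dvd, ← h1]
    intro hd
    rcases Nat.prime_two.dvd_mul.1 hd with h2 | h2
    · exact hKodd h2
    · refine hDodd (h2.trans ((relIndex_dvd_card _ _).trans ?_))
      rw [Nat.card_congr (subgroupOfEquivOfLe hD'X).toEquiv, hD', card_map_of_injective H.subtype_injective]
  · have h1 : N.index ∣ Nat.card ↥T' := by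
      rw [← relIndex_top_right, ← hgen, sup_comm, relIndex_sup_right]
      exact relIndex_dvd_card _ _
    obtain ⟨k, hk⟩ := IsPGroup.iff_card.1 (f.two.comap_subtype (K := X))
    rw [show Nat.card ↥T' = 2 ^ k from hk] at h1
    obtain ⟨j, -, hj⟩ := (Nat.dvd_prime_pow Nat.prime_two).1 h1
    exact ⟨j, hj⟩

end Cfsg.Agent.PiTwo
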