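import Cfsg.Agent.Lib.PiTwo.RankTwo
import Cfsg.Agent.S0001

/-!
π-homogeneous groups with 2-closed π-subgroups are π'-closed.
-/

set_option autoImplicit false
set_option linter.style.haveILetI false
set_option linter.unusedSectionVars false

open scoped Pointwise

namespace Cfsg.Agent.PiTwo

open Subgroup

universe u

variable {G : Type u} [Group G] [Finite G] {π : Set ℕ}

/-- π-homogeneity. -/
def Homog (π : Set ℕ) (G : Type u) [Group G] : Prop :=
  ∀ H : Subgroup G, H ≠ ⊥ → PiSub π H →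
    ∀ p : ℕ, p.Prime → p ∣ (centralizer (H : Set G)).relIndex (normalizer (H : Set G)) → p ∈ π

/-- The π'-elements form a subgroup. -/
def HasCore (π : Set ℕ) (G : Type u) [Group G] : Prop :=
  ∃ K : Subgroup G, ∀ x : G, x ∈ K ↔ Pi' π x

theorem restrict (h : TwoClosed π G) (hh : Homog π G) (X : Subgroup G) :
    TwoClosed π ↥X ∧ Homog π ↥X := by
  have hmap : ∀ H : Subgroup ↥X, PiSub π H → PiSub π (H.map X.subtype) := fun H hH p hp hd => by
    rw [card_map_of_injective X.subtype_injective] at hd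
    exact hH p hp hd
  refine ⟨⟨h.two, fun H hH P => ?_⟩, fun H hne hH p hp hd => ?_⟩
  · haveI : Fact (Nat.Prime 2) := ⟨Nat.prime_two⟩
    let e := H.equivMapOfInjective X.subtype X.subtype_injective
    let P' : Sylow 2 ↥(H.map X.subtype) := (P.2.map e.toMonoidHom).toSylow (by
      rw [index_map_of_bijective (f := e.toMonoidHom) e.bijective]; exact P.not_dvd_index)
    have hn := h.closed _ (hmap H hH) P'
    refine ⟨fun x hx g => ?_⟩
    obtain ⟨y, hy, he⟩ := hn.conj_mem (e x) ⟨x, hx, rfl⟩ (e g)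
    have : y = g * x * g⁻¹ := e.injective (by rw [map_mul, map_mul, map_inv]; exact he)
    rwa [← this]
  · set H' := H.map X.subtype with hH'
    have hne' : H' ≠ ⊥ := fun e => hne ((map_eq_bot_iff_of_injective _ X.subtype_injective).1 e)
    refine hh H' hne' (hmap H hH) p hp (hd.trans ?_)
    have hN : normalizer (H : Set ↥X) ≤ (normalizer (H' : Set G)).subgroupOf X := by
      intro g hg
      show (g : G) ∈ normalizer (H' : Set G)
      rw [mem_normalizer_iff_map_conj_eq]
      refine eq_of_le_of_card_ge ?_ (card_map_of_injective (MulAut.conj (g : G)).injective).ge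
      rintro _ ⟨_, ⟨x, hx, rfl⟩, rfl⟩
      exact ⟨g * x * g⁻¹, (mem_normalizer_iff.1 hg x).1 hx, rfl⟩
    have hC : (centralizer (H' : Set G)).subgroupOf X ≤ centralizer (H : Set ↥X) := fun g hg =>
      mem_centralizer_iff.2 fun x hx => Subtype.ext (mem_centralizer_iff.1 hg (x : G) ⟨x, hx, rfl⟩)
    refine (relIndex_dvd_of_le_left _ hC).trans ?_
    have hle : (normalizer (H : Set ↥X)).map X.subtype ≤ normalizer (H' : Set G) := map_le_iff_le_comap.2 hN
    haveI : ((centralizer (H' : Set G)).subgroupOf (normalizer (H' : Set G))).Normal := by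
      rw [← Subgroup.normalizerMonoidHom_ker]
      infer_instance
    show ((centralizer (H' : Set G)).comap X.subtype).relIndex (normalizer (H : Set ↥X)) ∣ _
    rw [relIndex_comap, ← relIndex_subgroupOf hle]
    exact relIndex_dvd_index_of_normal _ _

theorem quotient (h : TwoClosed π G) (hh : Homog π G) (N : Subgroup G) [N.Normal]
    (lift : ∀ B : Subgroup (G ⧸ N), PiSub π B → ∃ H : Subgroup G, PiSub π H ∧
      H.map (QuotientGroup.mk' N) = B ∧
      normalizer (B : Set (G ⧸ N)) ≤ (normalizer (H : Set G)).map (QuotientGroup.mk' N)) :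
    TwoClosed π (G ⧸ N) ∧ Homog π (G ⧸ N) := by
  haveI : Fact (Nat.Prime 2) := ⟨Nat.prime_two⟩
  refine ⟨⟨h.two, fun B hB P => ?_⟩, fun B hne hB p hp hd => ?_⟩
  · obtain ⟨H, hH, rfl, -⟩ := lift B hB
    let f := (QuotientGroup.mk' N).subgroupMap H
    have hf : Function.Surjective f := (QuotientGroup.mk' N).subgroupMap_surjective H
    obtain ⟨R⟩ := (inferInstance : Nonempty (Sylow 2 ↥H))
    haveI := h.closed H hH R
    let P' : Sylow 2 ↥(H.map (QuotientGroup.mk' N)) := (R.2.map f).toSylow (fun hd =>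
      R.not_dvd_index (hd.trans (index_map_dvd (R : Subgroup ↥H) hf)))
    haveI : (P' : Subgroup ↥(H.map (QuotientGroup.mk' N))).Normal :=
      Subgroup.Normal.map (inferInstance : (R : Subgroup ↥H).Normal) f hf
    obtain ⟨g, hg⟩ := MulAction.exists_smul_eq ↥(H.map (QuotientGroup.mk' N)) P' P
    rw [← hg, Sylow.smul_eq_of_normal]
    infer_instance
  · obtain ⟨H, hH, rfl, hN⟩ := lift B hB
    refine hh H (fun e => hne (by rw [e, Subgroup.map_bot])) hH p hp (hd.trans ?_)
    set q := QuotientGroup.mk' N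
    have hC : (centralizer (H : Set G)).map q ≤ centralizer (H.map q : Set (G ⧸ N)) := by
      rintro _ ⟨c, hc, rfl⟩
      refine mem_centralizer_iff.2 ?_
      rintro _ ⟨x, hx, rfl⟩
      rw [← map_mul, ← map_mul, mem_centralizer_iff.1 hc x hx]
    refine (relIndex_dvd_of_le_left _ hC).trans ?_
    have hN' : normalizer (H.map q : Set (G ⧸ N)) = (normalizer (H : Set G)).map q :=
      le_antisymm hN (Subgroup.le_normalizer_map q)
    rw [hN']
    set C := centralizer (H : Set G)
    set Nh := normalizer (H : Set G)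
    have h1 := index_map_dvd (C.subgroupOf Nh) (q.subgroupMap_surjective Nh)
    refine dvd_trans (index_dvd_of_le ?_) h1
    rintro _ ⟨x, hx, rfl⟩
    exact ⟨_, hx, rfl⟩

theorem eq_one_of_coprime {A B : Subgroup G} (h : ∀ p : ℕ, p.Prime → p ∣ Nat.card ↥A → p ∣ Nat.card ↥B → False)
    {x : G} (ha : x ∈ A) (hb : x ∈ B) : x = 1 := by
  by_contra hx
  obtain ⟨p, hp, hd⟩ := Nat.exists_prime_and_dvd (n := orderOf x) (fun e => hx (orderOf_eq_one_iff.1 e))
  exact h p hp (hd.trans (Subgroup.orderOf_dvd_natCard A ha)) (hd.trans (Subgroup.orderOf_dvd_natCard B hb))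

theorem Pi'.one : Pi' π (1 : G) := by
  intro p hp hd
  rw [orderOf_one] at hd
  exact absurd (Nat.le_of_dvd one_pos hd) (by have := hp.two_le; omega)

theorem pi'_of_card {A : Subgroup G} (hA : ∀ p : ℕ, p.Prime → p ∣ Nat.card ↥A → p ∉ π) {x : G} (hx : x ∈ A) :
    Pi' π x := fun p hp hd => hA p hp (hd.trans (Subgroup.orderOf_dvd_natCard A hx))

/-- An element whose image in the quotient by a π'-subgroup is a π'-element is a π'-element. -/
theorem pi'_lift (K : Subgroup G) [K.Normal] (hK : ∀ p : ℕ, p.Prime → p ∣ Nat.card ↥K → p ∉ π) {x : G}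
    (hx : Pi' π (QuotientGroup.mk' K x)) : Pi' π x := by
  intro p hp hd
  set m := orderOf (QuotientGroup.mk' K x) with hm
  have hxm : x ^ m ∈ K := (QuotientGroup.eq_one_iff _).1 (by
    show QuotientGroup.mk' K (x ^ m) = 1
    rw [map_pow, hm, pow_orderOf_eq_one])
  have hdvd : orderOf x ∣ m * Nat.card ↥K := by
    refine orderOf_dvd_of_pow_eq_one ?_
    rw [pow_mul]
    exact congrArg Subtype.val (pow_card_eq_one' (x := (⟨x ^ m, hxm⟩ : ↥K)))
  rcases hp.dvd_mul.1 (hd.trans hdvd) with h1 | h1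
  · exact hx p hp h1
  · exact hK p hp h1

theorem pi'_image (N : Subgroup G) [N.Normal] {x : G} (hx : Pi' π x) : Pi' π (QuotientGroup.mk' N x) :=
  fun p hp hd => hx p hp (hd.trans (orderOf_map_dvd _ x))

/-- Reduction by a normal π'-subgroup. -/
theorem step_pi' (h : TwoClosed π G) (hh : Homog π G) (K : Subgroup G) [K.Normal]
    (hK : ∀ p : ℕ, p.Prime → p ∣ Nat.card ↥K → p ∉ π)
    (ih : TwoClosed π (G ⧸ K) → Homog π (G ⧸ K) → HasCore π (G ⧸ K)) : HasCore π G := by
  have hKsol : Group.IsSolvable ↥K := S0205.result (by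
    rw [← Nat.not_even_iff_odd, even_iff_two_dvd]
    exact fun hd => hK 2 Nat.prime_two hd h.two)
  obtain ⟨hq, hhq⟩ := quotient h hh K (fun B hB => by
    set q := QuotientGroup.mk' K
    set L := B.comap q with hL
    have hKL : K ≤ L := fun k hk => by
      show q k ∈ B
      rw [show q k = 1 from (QuotientGroup.eq_one_iff k).2 hk]
      exact one_mem B
    set K' := K.subgroupOf L with hK'def
    have hK'c : Nat.card ↥K' = Nat.card ↥K := Nat.card_congr (subgroupOfEquivOfLe hKL).toEquiv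
    have hidx : K'.index = Nat.card ↥B := by
      show K.relIndex L = _
      have h1 := Subgroup.relIndex_ker (K := B.comap (QuotientGroup.mk' K)) (QuotientGroup.mk' K)
      rw [QuotientGroup.ker_mk', map_comap_eq_self_of_surjective (QuotientGroup.mk'_surjective K)] at h1
      exact h1
    have hcop : (Nat.card ↥K').Coprime K'.index := Nat.coprime_of_dvd fun p hp h1 h2 =>
      hK p hp (hK'c ▸ h1) (hB p hp (hidx ▸ h2))
    obtain ⟨C, hC⟩ := exists_right_complement'_of_coprime hcop
    set H := C.map L.subtype with hH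
    have hHc : Nat.card ↥H = Nat.card ↥B := by
      rw [hH, card_map_of_injective L.subtype_injective, ← hidx]
      exact Nat.eq_of_mul_eq_mul_left (Nat.card_pos (α := ↥K')) (hC.card_mul_card.trans (card_mul_index K').symm)
    have hHmap : H.map q = B := by
      refine le_antisymm ?_ fun b hb => ?_
      · rintro _ ⟨_, ⟨c, -, rfl⟩, rfl⟩
        exact c.2
      · obtain ⟨g, rfl⟩ := QuotientGroup.mk'_surjective K b
        have hg : (⟨g, hb⟩ : ↥L) ∈ K' ⊔ C := hC.sup_eq_top ▸ mem_top _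
        obtain ⟨k, hk, c, hc, he⟩ := mem_sup_of_normal_left.1 hg
        refine ⟨c, ⟨c, hc, rfl⟩, ?_⟩
        have he' : (k : G) * (c : G) = g := congrArg Subtype.val he
        rw [← he', map_mul, show q (k : G) = 1 from (QuotientGroup.eq_one_iff _).2 hk, one_mul]
    refine ⟨H, fun p hp hd => hB p hp (hHc ▸ hd), hHmap, fun b hb => ?_⟩
    obtain ⟨g, rfl⟩ := QuotientGroup.mk'_surjective K b
    have hgL : ∀ x ∈ L, g * x * g⁻¹ ∈ L := fun x hx => by
      show q (g * x * g⁻¹) ∈ B
      rw [map_mul, map_mul, map_inv]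
      exact (mem_normalizer_iff.1 hb _).1 hx
    set H' := H.map (MulAut.conj g).toMonoidHom with hH'
    have hH'L : H' ≤ L := by
      rintro _ ⟨_, ⟨c, -, rfl⟩, rfl⟩
      exact hgL _ c.2
    set C' := H'.subgroupOf L with hC'
    have hC'c : Nat.card ↥C' = Nat.card ↥B := by
      rw [Nat.card_congr (subgroupOfEquivOfLe hH'L).toEquiv, hH', card_map_of_injective (MulAut.conj g).injective, hHc]
    have hcomp : IsComplement' K' C' := isComplement'_of_card_mul_and_disjoint
      (by rw [hC'c, ← hidx, card_mul_index]) (Subgroup.disjoint_def.2 fun {x} hx1 hx2 =>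
        eq_one_of_coprime (fun p hp h1 h2 => hK p hp (hK'c ▸ h1) (hB p hp (hC'c ▸ h2))) hx1 hx2)
    obtain ⟨l, hl⟩ := S0001.result K' hcop (Or.inl (Group.isSolvable_of_isSolvable_injective
      (f := (subgroupOfEquivOfLe hKL).toMonoidHom) (subgroupOfEquivOfLe hKL).injective)) C C' hC hcomp
    obtain ⟨k, hk, c, hc, rfl⟩ : ∃ k ∈ K', ∃ c ∈ C, l = k * c := by
      obtain ⟨k, hk, c, hc, he⟩ := mem_sup_of_normal_left.1 (hC.sup_eq_top ▸ mem_top l : l ∈ K' ⊔ C)
      exact ⟨k, hk, c, hc, he.symm⟩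
    refine ⟨(k : G)⁻¹ * g, ?_, ?_⟩
    · show (k : G)⁻¹ * g ∈ normalizer (H : Set G)
      rw [mem_normalizer_iff_map_conj_eq]
      refine eq_of_le_of_card_ge ?_ (card_map_of_injective (MulAut.conj ((k : G)⁻¹ * g)).injective).ge
      rintro _ ⟨x, hx, rfl⟩
      have h1 : (⟨g * x * g⁻¹, hH'L ⟨x, hx, rfl⟩⟩ : ↥L) ∈ C' := ⟨x, hx, rfl⟩
      rw [← hl, mem_pointwise_smul_iff_inv_smul_mem, ← map_inv, MulAut.smul_def, MulAut.conj_apply, inv_inv] at h1
      have h2 := mul_mem (mul_mem hc h1) (inv_mem hc)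
      refine ⟨_, h2, ?_⟩
      show (c : G) * (((k : G) * c)⁻¹ * (g * x * g⁻¹) * ((k : G) * c)) * (c : G)⁻¹ =
        (k : G)⁻¹ * g * x * ((k : G)⁻¹ * g)⁻¹
      group
    · rw [map_mul, map_inv, show q (k : G) = 1 from (QuotientGroup.eq_one_iff _).2 hk, inv_one, one_mul])
  obtain ⟨L, hL⟩ := ih hq hhq
  refine ⟨L.comap (QuotientGroup.mk' K), fun x => ?_⟩
  rw [mem_comap, hL]
  exact ⟨pi'_lift K hK, pi'_image K⟩

/-- Reduction by a central π-subgroup. -/
theorem step_central (h : TwoClosed π G) (hh : Homog π G) (N : Subgroup G) [N.Normal] (hN : PiSub π N)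
    (hc : N ≤ center G) (ih : TwoClosed π (G ⧸ N) → Homog π (G ⧸ N) → HasCore π (G ⧸ N)) : HasCore π G := by
  set q := QuotientGroup.mk' N with hqdef
  have hpre : ∀ B : Subgroup (G ⧸ N), Nat.card ↥(B.comap q) = Nat.card ↥N * Nat.card ↥B := by
    intro B
    have hNB : N ≤ B.comap q := fun k hk => by
      show q k ∈ B
      rw [show q k = 1 from (QuotientGroup.eq_one_iff k).2 hk]
      exact one_mem B
    rw [← PBasic.card_mul_relIndex hNB]
    congr 1
    have h1 := Subgroup.relIndex_ker (K := B.comap q) q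
    rw [hqdef, QuotientGroup.ker_mk'] at h1
    rw [hqdef, h1, map_comap_eq_self_of_surjective (QuotientGroup.mk'_surjective N)]
  obtain ⟨hq, hhq⟩ := quotient h hh N fun B hB => by
    refine ⟨B.comap q, fun p hp hd => ?_, map_comap_eq_self_of_surjective (QuotientGroup.mk'_surjective N) B,
      fun b hb => ?_⟩
    · rw [hpre] at hd
      rcases hp.dvd_mul.1 hd with h1 | h1
      · exact hN p hp h1
      · exact hB p hp h1
    · obtain ⟨g, rfl⟩ := QuotientGroup.mk'_surjective N b
      refine ⟨g, mem_normalizer_iff.2 fun x => ?_, rfl⟩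
      show q x ∈ B ↔ q (g * x * g⁻¹) ∈ B
      rw [map_mul, map_mul, map_inv]
      exact mem_normalizer_iff.1 hb _
  obtain ⟨L, hL⟩ := ih hq hhq
  set L' := L.comap q with hL'
  have hLpi : ∀ p : ℕ, p.Prime → p ∣ Nat.card ↥L → p ∉ π := by
    intro p hp hd
    haveI : Fact p.Prime := ⟨hp⟩
    obtain ⟨x, hx⟩ := exists_prime_orderOf_dvd_card' p hd
    exact ((hL x).1 x.2) p hp (by rw [Subgroup.orderOf_coe, hx])
  have hNL : N ≤ L' := fun k hk => by
    show q k ∈ L
    rw [show q k = 1 from (QuotientGroup.eq_one_iff k).2 hk]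
    exact one_mem L
  set N' := N.subgroupOf L'
  have hN'c : Nat.card ↥N' = Nat.card ↥N := Nat.card_congr (subgroupOfEquivOfLe hNL).toEquiv
  have hidx : N'.index = Nat.card ↥L := by
    have h1 := card_mul_index N'
    rw [hN'c, hpre L] at h1
    exact Nat.eq_of_mul_eq_mul_left Nat.card_pos h1
  obtain ⟨C, hC⟩ := exists_right_complement'_of_coprime (N := N') (Nat.coprime_of_dvd fun p hp h1 h2 =>
    hLpi p hp (hidx ▸ h2) (hN p hp (hN'c ▸ h1)))
  have hCc : Nat.card ↥(C.map L'.subtype) = Nat.card ↥L := by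
    rw [card_map_of_injective L'.subtype_injective, ← hidx]
    exact Nat.eq_of_mul_eq_mul_left (Nat.card_pos (α := ↥N')) (hC.card_mul_card.trans (card_mul_index N').symm)
  refine ⟨C.map L'.subtype, fun x => ⟨fun hx => pi'_of_card (fun p hp hd => hLpi p hp (hCc ▸ hd)) hx, fun hx => ?_⟩⟩
  have hxL : x ∈ L' := (hL _).2 (pi'_image N hx)
  obtain ⟨n, hn, c, hc', he⟩ := mem_sup_of_normal_left.1 (hC.sup_eq_top ▸ mem_top _ : (⟨x, hxL⟩ : ↥L') ∈ N' ⊔ C)
  have he' : (n : G) * (c : G) = x := congrArg Subtype.val he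
  have hcpi : Pi' π (c : G) := pi'_of_card (fun p hp hd => hLpi p hp (hCc ▸ hd)) ⟨c, hc', rfl⟩
  have hn1 : (n : G) = 1 := by
    refine eq_one_of_pi hN hn fun p hp hd => ?_
    have hcomm : Commute x (c : G)⁻¹ := by
      rw [← he']
      exact (show Commute (n : G) (c : G)⁻¹ from (mem_center_iff.1 (hc hn) ((c : G)⁻¹)).symm).mul_left
        (Commute.refl (c : G)).inv_right
    have hdd : orderOf (n : G) ∣ orderOf x * orderOf (c : G) := by
      rw [show (n : G) = x * (c : G)⁻¹ by rw [← he']; group, ← orderOf_inv (c : G)]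
      exact hcomm.orderOf_mul_dvd_lcm.trans (Nat.lcm_dvd_mul _ _)
    rcases hp.dvd_mul.1 (hd.trans hdd) with h1 | h1
    · exact hx p hp h1
    · exact hcpi p hp h1
  rw [hn1, one_mul] at he'
  exact ⟨c, hc', he'⟩

/-- The theorem. -/
theorem hasCore : ∀ n : ℕ, ∀ (G : Type u) [Group G] [Finite G], Nat.card G = n → TwoClosed π G → Homog π G →
    HasCore π G := by
  intro n
  induction n using Nat.strong_induction_on with
  | _ n ih =>
  intro G _ _ hn h hh
  classical
  have hsub : ∀ X : Subgroup G, X ≠ ⊤ → Closed π X := by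
    intro X hX
    have hlt : Nat.card ↥X < n := hn ▸ lt_of_not_ge fun hge => hX (eq_top_of_card_eq X (le_antisymm (card_le_card_group X) hge))
    obtain ⟨h1, h2⟩ := restrict h hh X
    obtain ⟨K, hK⟩ := ih _ hlt ↥X rfl h1 h2
    have hiff : ∀ x : ↥X, Pi' π (x : G) ↔ Pi' π x := fun x => by unfold Pi'; rw [Subgroup.orderOf_coe]
    intro x
    refine ⟨fun hx => ⟨core_le X hx, ?_⟩, fun hx => subset_closure hx⟩
    have hle : core π X ≤ K.map X.subtype := (closure_le _).2 fun y hy =>
      ⟨⟨y, hy.1⟩, (hK _).2 ((hiff ⟨y, hy.1⟩).1 hy.2), rfl⟩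
    obtain ⟨z, hz, rfl⟩ := hle hx
    exact (hiff z).2 ((hK z).1 hz)
  rcases subsingleton_or_nontrivial G with hs | hnt
  · exact ⟨⊤, fun x => ⟨fun _ => by rw [Subsingleton.elim x 1]; exact Pi'.one, fun _ => mem_top _⟩⟩
  have hquot : ∀ (N : Subgroup G) [N.Normal], N ≠ ⊥ →
      TwoClosed π (G ⧸ N) → Homog π (G ⧸ N) → HasCore π (G ⧸ N) := fun N _ hN =>
    ih _ (hn ▸ by
      rw [card_eq_card_quotient_mul_card_subgroup N]
      exact lt_mul_of_one_lt_right Nat.card_pos ((one_lt_card_iff_ne_bot N).2 hN)) _ rfl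
  by_cases hnorm : ∃ N : Subgroup G, N.Normal ∧ N ≠ ⊥ ∧ N ≠ ⊤
  · obtain ⟨N, hNn, hN1, hN2⟩ := hnorm
    haveI := hNn
    have hNc := hsub N hN2
    by_cases hK : core π N = ⊥
    · have hNpi : PiSub π N := by
        intro p hp hd
        by_contra hpπ
        haveI : Fact p.Prime := ⟨hp⟩
        obtain ⟨x, hx⟩ := exists_prime_orderOf_dvd_card' p hd
        have h1 : (x : G) ∈ core π N := (hNc _).2 ⟨x.2, pi'_of_pow_prime hp (k := 1) (by rw [Subgroup.orderOf_coe, hx, pow_one]) hpπ⟩
        rw [hK, mem_bot] at h1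
        rw [← Subgroup.orderOf_coe, h1, orderOf_one] at hx
        exact hp.ne_one hx.symm
      by_cases hcent : centralizer (N : Set G) = ⊤
      · exact step_central h hh N hNpi (fun x hx => mem_center_iff.2 fun g =>
          (mem_centralizer_iff.1 (hcent.ge (mem_top g)) x hx).symm) (hquot N hN1)
      set C := centralizer (N : Set G) with hCdef
      haveI hCn : C.Normal := Subgroup.normal_centralizer
      by_cases hKC : core π C = ⊥
      · refine ⟨⊥, fun x => ⟨fun hx => by rw [mem_bot.1 hx]; exact Pi'.one, fun hx => mem_bot.2 ?_⟩⟩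
        by_contra hx1
        have hxm : x ∈ C := by
          obtain ⟨p, hp, hd⟩ := Nat.exists_prime_and_dvd (n := orderOf x) (fun e => hx1 (orderOf_eq_one_iff.1 e))
          have hcl : orderOf (QuotientGroup.mk' C x) = 1 := by
            by_contra h1
            obtain ⟨r, hr, hrd⟩ := Nat.exists_prime_and_dvd h1
            refine hx r hr (hrd.trans (orderOf_map_dvd _ x)) (hh N hN1 hNpi r hr ?_)
            rw [normalizer_eq_top_iff.2 hNn, relIndex_top_right, index_eq_card]
            exact hrd.trans (orderOf_dvd_natCard _)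
          exact (QuotientGroup.eq_one_iff x).1 (orderOf_eq_one_iff.1 hcl)
        have := (hsub C hcent x).2 ⟨hxm, hx⟩
        rw [hKC, mem_bot] at this
        exact hx1 this
      · haveI : (core π C).Normal := ⟨fun k hk g => core_conj_mem (by rw [normalizer_eq_top_iff.2 hCn]; exact mem_top g) hk⟩
        exact step_pi' h hh (core π C) (fun p hp hd => (hsub C hcent).not_mem_pi hp hd) (hquot _ hKC)
    · haveI : (core π N).Normal := ⟨fun k hk g => core_conj_mem (by rw [normalizer_eq_top_iff.2 hNn]; exact mem_top g) hk⟩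
      exact step_pi' h hh (core π N) (fun p hp hd => hNc.not_mem_pi hp hd) (hquot _ hK)
  · push Not at hnorm
    haveI hsimple : IsSimpleGroup G := ⟨fun H hH => (em (H = ⊥)).imp id fun h1 => hnorm H hH h1⟩
    by_cases hcomm : IsMulCommutative G
    · letI : CommGroup G := { (inferInstance : Group G) with mul_comm := hcomm.is_comm.comm }
      haveI := IsSimpleGroup.isCyclic (α := G)
      have hp := IsSimpleGroup.prime_card (α := G)
      by_cases hq : Nat.card G ∈ π
      · refine ⟨⊥, fun x => ⟨fun hx => by rw [mem_bot.1 hx]; exact Pi'.one, fun hx => mem_bot.2 ?_⟩⟩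
        by_contra hx1
        obtain ⟨r, hr, hd⟩ := Nat.exists_prime_and_dvd (n := orderOf x) (fun e => hx1 (orderOf_eq_one_iff.1 e))
        exact hx r hr hd ((Nat.prime_dvd_prime_iff_eq hr hp).1 (hd.trans (orderOf_dvd_natCard x)) ▸ hq)
      · refine ⟨⊤, fun x => ⟨fun _ r hr hd => ?_, fun _ => mem_top _⟩⟩
        rw [(Nat.prime_dvd_prime_iff_eq hr hp).1 (hd.trans (orderOf_dvd_natCard x))]
        exact hq
    · exact (Minimal.false_of_minimal ⟨h, hsimple, hcomm, hsub⟩).elim

/-- The converse direction. -/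
theorem homog_of_hasCore (hK : HasCore π G) : Homog π G := by
  obtain ⟨K, hK⟩ := hK
  haveI : K.Normal := ⟨fun k hk g => (hK _).2 (pi'_conj g ((hK k).1 hk))⟩
  intro H _ hH p hp hd
  set N := normalizer (H : Set G)
  have hle : K ⊓ N ≤ centralizer (H : Set G) := by
    rintro k ⟨hk, hkN⟩
    refine mem_centralizer_iff.2 fun x hx => ?_
    have h1 : k * x * k⁻¹ * x⁻¹ ∈ K := by
      rw [show k * x * k⁻¹ * x⁻¹ = k * (x * k⁻¹ * x⁻¹) by group]
      exact mul_mem hk ((‹K.Normal›).conj_mem _ (inv_mem hk) x)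
    have h2 := eq_one_of_pi hH (mul_mem ((mem_normalizer_iff.1 hkN x).1 hx) (inv_mem hx)) ((hK _).1 h1)
    exact (mul_inv_eq_iff_eq_mul.1 (mul_inv_eq_one.1 h2)).symm
  have hd' : p ∣ K.index := by
    refine (hd.trans (relIndex_dvd_of_le_left N hle)).trans ?_
    rw [inf_relIndex_right]
    exact relIndex_dvd_index_of_normal _ _
  by_contra hpπ
  haveI : Fact p.Prime := ⟨hp⟩
  obtain ⟨P⟩ := (inferInstance : Nonempty (Sylow p G))
  refine P.not_dvd_index (hd'.trans (index_dvd_of_le fun x hx => ?_))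
  obtain ⟨k, hk⟩ := P.2 ⟨x, hx⟩
  obtain ⟨j, -, hj⟩ := (Nat.dvd_prime_pow hp).1
    (orderOf_dvd_of_pow_eq_one (show x ^ p ^ k = 1 from congrArg Subtype.val hk))
  exact (hK x).2 (pi'_of_pow_prime hp hj hpπ)

end Cfsg.Agent.PiTwo
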