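import Cfsg.Agent.Lib.PiTwo.Four
import Cfsg.Agent.Lib.Involutions.SwapCount

/-!
The minimal situation has 2-rank at most two: the signalizer functor of the π'-cores yields a strongly
embedded subgroup, and a strongly embedded subgroup contains no four-subgroup.
-/

set_option autoImplicit false
set_option linter.style.haveILetI false
set_option linter.unusedSectionVars false

open scoped Pointwise

namespace Cfsg.Agent.PiTwo

open Subgroup Cfsg.Agent.Signalizer Cfsg.Agent.Signalizer.SFT Cfsg.Agent.SolvCores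

universe u

variable {G : Type u} [Group G] [Finite G] {π : Set ℕ}

theorem core_map (g : G) (X : Subgroup G) :
    (core π X).map (MulAut.conj g).toMonoidHom = core π (X.map (MulAut.conj g).toMonoidHom) := by
  rw [core, core, MonoidHom.map_closure]
  congr 1
  ext x
  constructor
  · rintro ⟨y, hy, rfl⟩
    exact ⟨⟨y, hy.1, rfl⟩, pi'_conj g hy.2⟩
  · rintro ⟨⟨y, hy, rfl⟩, hx⟩
    refine ⟨y, ⟨hy, ?_⟩, rfl⟩
    have := pi'_conj g⁻¹ hx
    simpa [mul_assoc] using this

theorem centralizer_map (g a : G) :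
    (centralizer ({a} : Set G)).map (MulAut.conj g).toMonoidHom = centralizer ({g * a * g⁻¹} : Set G) := by
  ext x
  rw [Invol.mem_conj_map, mem_centralizer_singleton_iff, mem_centralizer_singleton_iff]
  constructor
  · intro h
    calc x * (g * a * g⁻¹) = g * (g⁻¹ * x * g * a) * g⁻¹ := by group
      _ = g * (a * (g⁻¹ * x * g)) * g⁻¹ := by rw [h]
      _ = _ := by group
  · intro h
    calc g⁻¹ * x * g * a = g⁻¹ * (x * (g * a * g⁻¹)) * g := by group
      _ = g⁻¹ * (g * a * g⁻¹ * x) * g := by rw [h]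
      _ = _ := by group

/-- No element of odd prime order in π is inverted by an involution. -/
theorem no_real_pi (h : TwoClosed π G) {q : ℕ} (hq : q.Prime) (hqπ : q ∈ π) (hq2 : q ≠ 2) {a w : G}
    (ha : orderOf a = q) (hw : orderOf w = 2) (hwa : w * a * w⁻¹ = a⁻¹) : False := by
  haveI : Fact (Nat.Prime 2) := ⟨Nat.prime_two⟩
  have hnorm : zpowers w ≤ normalizer (zpowers a : Set G) := by
    rw [zpowers_le, mem_normalizer_iff_map_conj_eq, MonoidHom.map_zpowers]
    show zpowers (w * a * w⁻¹) = zpowers a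
    rw [hwa, zpowers_inv]
  set H := zpowers a ⊔ zpowers w with hH
  have hle : Nat.card ↥H ≤ q * 2 := by
    rw [← ha, ← hw, ← Nat.card_zpowers a, ← Nat.card_zpowers w, ← Nat.card_prod]
    refine Nat.card_le_card_of_surjective (fun p : ↥(zpowers a) × ↥(zpowers w) =>
      (⟨p.1.1 * p.2.1, mul_mem (mem_sup_left p.1.2) (mem_sup_right p.2.2)⟩ : ↥H)) fun x => ?_
    have hx : (x : G) ∈ (zpowers a : Set G) * (zpowers w : Set G) := by
      rw [← coe_mul_of_right_le_normalizer_left _ _ hnorm]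
      exact x.2
    obtain ⟨b, hb, c, hc, he⟩ := hx
    exact ⟨(⟨b, hb⟩, ⟨c, hc⟩), Subtype.ext he⟩
  have hdvd : q * 2 ∣ Nat.card ↥H := by
    refine Nat.Coprime.mul_dvd_of_dvd_of_dvd ((Nat.coprime_primes hq Nat.prime_two).2 hq2) ?_ ?_
    · exact ha ▸ Subgroup.orderOf_dvd_natCard H (mem_sup_left (mem_zpowers a))
    · exact hw ▸ Subgroup.orderOf_dvd_natCard H (mem_sup_right (mem_zpowers w))
  have hcard : Nat.card ↥H = q * 2 := le_antisymm hle (Nat.le_of_dvd Nat.card_pos hdvd)
  have hpi : PiSub π H := by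
    intro r hr hd
    rw [hcard] at hd
    rcases hr.dvd_mul.1 hd with h1 | h1
    · rwa [(Nat.prime_dvd_prime_iff_eq hr hq).1 h1]
    · rw [(Nat.prime_dvd_prime_iff_eq hr Nat.prime_two).1 h1]
      exact h.two
  obtain ⟨P⟩ := (inferInstance : Nonempty (Sylow 2 ↥H))
  haveI := h.closed H hpi P
  let a' : ↥H := ⟨a, mem_sup_left (mem_zpowers a)⟩
  let w' : ↥H := ⟨w, mem_sup_right (mem_zpowers w)⟩
  have hwP : w' ∈ (P : Subgroup ↥H) := by
    have hp : IsPGroup 2 ↥(zpowers w') :=
      IsPGroup.of_card (n := 1) (by rw [Nat.card_zpowers, pow_one, Subgroup.orderOf_mk, hw])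
    exact (P.3 (hp.to_sup_of_normal_right P.2) le_sup_right).le (mem_sup_left (mem_zpowers w'))
  have h1 : a' * w' * a'⁻¹ * w'⁻¹ ∈ (P : Subgroup ↥H) :=
    mul_mem ((‹(P : Subgroup ↥H).Normal›).conj_mem w' hwP a') (inv_mem hwP)
  have h2 : a' * a' ∈ (P : Subgroup ↥H) := by
    have e : a' * w' * a'⁻¹ * w'⁻¹ = a' * a' := Subtype.ext (by
      show a * w * a⁻¹ * w⁻¹ = a * a
      rw [show a * w * a⁻¹ * w⁻¹ = a * (w * a * w⁻¹)⁻¹ by group, hwa, inv_inv])
    rwa [e] at h1
  obtain ⟨k, hk⟩ := P.2 ⟨_, h2⟩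
  have h3 : (a * a) ^ 2 ^ k = 1 := by
    have := congrArg (fun x : ↥(P : Subgroup ↥H) => ((x : ↥H) : G)) hk
    simpa using this
  have h4 : q ∣ 2 ^ (k + 1) := by
    rw [← ha]
    refine orderOf_dvd_of_pow_eq_one ?_
    rw [pow_succ', pow_mul, pow_two]
    exact h3
  exact hq2 ((Nat.prime_dvd_prime_iff_eq hq Nat.prime_two).1 (hq.dvd_of_dvd_pow h4))

namespace Minimal

variable (hm : Minimal π G)
include hm

/-- A strongly embedded subgroup contains no four-subgroup. -/
theorem se_false {M : Subgroup G} (hM : Cfsg.IsStronglyEmbedded M) {A : Subgroup G} (hA : Four A)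
    (hAM : A ≤ M) : False := by
  have hMc : Closed π M := hm.proper M hM.1
  obtain ⟨s, hsA, hs1, -⟩ := hA.exists_ne (z := (1 : G))
  obtain ⟨s', hs'A, hs'1, hs's⟩ := hA.exists_ne (z := s)
  have hso : orderOf s = 2 := hA.order hsA hs1
  obtain ⟨g, hg⟩ : ∃ g, g ∉ M := by
    by_contra h
    push Not at h
    exact hM.1 (eq_top_iff.2 fun g _ => h g)
  set x : G ⧸ M := ((1 : G) : G ⧸ M) with hx
  set y : G ⧸ M := ((g : G) : G ⧸ M) with hy
  have hfix : ∀ k : G, k • x = x ↔ k ∈ M := fun k => by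
    rw [hx, MulAction.Quotient.smul_mk, smul_eq_mul, mul_one, QuotientGroup.eq, mul_one, inv_mem_iff]
  have hxy : x ≠ y := fun h => hg (by
    rw [hx, hy, QuotientGroup.eq, inv_one, one_mul] at h
    exact h)
  let sf : Invol.FixInv x := ⟨s, hso, (hfix s).2 (hAM hsA)⟩
  have hbij := Invol.swap_conj_bijective hM hxy sf
  obtain ⟨w0⟩ : Nonempty (Invol.SwapInv x y) := by
    have hn : 0 < Nat.card {t : G // orderOf t = 2 ∧ t ∈ M} :=
      Nat.card_pos_iff.2 ⟨⟨⟨s, hso, hAM hsA⟩⟩, inferInstance⟩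
    rw [← Invol.card_swapInv hM hxy] at hn
    exact (Nat.card_pos_iff.1 hn).1
  have hw0i := Invol.inv_self w0.2.1
  have hw0y : w0.1 • y = x := by
    have h := congrArg (w0.1 • ·) w0.2.2
    simp only [← mul_smul, Invol.mul_self w0.2.1, one_smul] at h
    exact h.symm
  have hw0M : w0.1 ∉ M := fun h => hxy (((hfix _).2 h).symm.trans w0.2.2)
  have key : ∀ i : G, orderOf i = 2 → i ∈ M → i * s⁻¹ ∈ core π M := by
    intro i hi hiM
    have hu : (w0.1 * i * w0.1⁻¹) • y = y := by
      rw [hw0i, mul_smul, mul_smul, hw0y, (hfix i).2 hiM, w0.2.2]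
    obtain ⟨w, hw⟩ := hbij.2 ⟨w0.1 * i * w0.1⁻¹, by rw [Invol.order_conj, hi], hu⟩
    have hw' : w.1 * s * w.1⁻¹ = w0.1 * i * w0.1⁻¹ := congrArg Subtype.val hw
    set k := w0.1⁻¹ * w.1 with hk
    have hkM : k ∈ M := (hfix k).1 (by rw [hk, mul_smul, w.2.2, hw0i, hw0y])
    have hinv : w0.1 * k * w0.1⁻¹ = k⁻¹ := by
      rw [hk, mul_inv_rev, inv_inv, mul_inv_cancel_left, Invol.inv_self w.2.1, hw0i]
    have hkpi : Pi' π k := by
      intro q hq hd hqπ
      set a := k ^ (orderOf k / q) with ha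
      have hao : orderOf a = q := by
        rw [ha, orderOf_pow_of_dvd (Nat.div_pos (Nat.le_of_dvd (orderOf_pos k) hd) hq.pos).ne'
          (Nat.div_dvd_of_dvd hd), Nat.div_div_self hd (orderOf_pos k).ne']
      have hwa : w0.1 * a * w0.1⁻¹ = a⁻¹ := by rw [ha, ← conj_pow, hinv, inv_pow]
      by_cases hq2 : q = 2
      · subst hq2
        exact hw0M (Invol.se_mem_of_conj hM hao (pow_mem hkM _) (hwa ▸ inv_mem (pow_mem hkM _)))
      · exact no_real_pi hm.tc hq hqπ hq2 hao w0.2.1 hwa
    have hkK : k ∈ core π M := (hMc k).2 ⟨hkM, hkpi⟩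
    have hi' : i = k * s * k⁻¹ := by
      calc i = w0.1⁻¹ * (w0.1 * i * w0.1⁻¹) * w0.1 := by group
        _ = w0.1⁻¹ * (w.1 * s * w.1⁻¹) * w0.1 := by rw [hw']
        _ = _ := by rw [hk]; group
    rw [hi', show k * s * k⁻¹ * s⁻¹ = k * (s * k⁻¹ * s⁻¹) by group]
    exact mul_mem hkK (core_conj_mem (le_normalizer (hAM hsA)) (inv_mem hkK))
  have h1 := key s' (hA.order hs'A hs'1) (hAM hs'A)
  haveI : Fact (Nat.Prime 2) := ⟨Nat.prime_two⟩
  have h2 : s' * s⁻¹ = 1 :=
    eq_one_of_pi (PiSub.of_isPGroup hA.isPGroup hm.tc.two)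
      (mul_mem hs'A (inv_mem hsA)) ((hMc _).1 h1).2
  exact hs's (mul_inv_eq_one.1 h2)

/-- The π'-cores of the centralisers of involutions. -/
theorem equivariant : Equivariant 2 fun a : G => core π (centralizer ({a} : Set G)) := by
  have hcl : ∀ a : G, orderOf a = 2 → Closed π (centralizer ({a} : Set G)) := fun a ha =>
    hm.closed_cent (Invol.ne_one ha)
  refine ⟨fun a ha => ⟨core_le _, ((hcl a ha.1).odd_core hm.tc).not_two_dvd_nat,
    S0205.result ((hcl a ha.1).odd_core hm.tc)⟩, fun a g _ => ?_, fun a b ha hb _ => ?_⟩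
  · show core π (centralizer ({g * a * g⁻¹} : Set G)) = _
    rw [core_map, centralizer_map]
  · rintro x ⟨hx, hxb⟩
    exact (hcl b hb.1 x).2 ⟨hxb, ((hcl a ha.1 x).1 hx).2⟩

/-- The 2-rank is at most two. -/
theorem prankLE : Cfsg.PRankLE 2 2 G := by
  classical
  haveI hp : Fact (Nat.Prime 2) := ⟨Nat.prime_two⟩
  intro A0 hc hexp
  by_contra hlt
  rw [not_le] at hlt
  have hA0 : Cfsg.IsElementaryAbelian 2 A0 := ⟨hc, hexp⟩
  obtain ⟨S⟩ := (inferInstance : Nonempty (Sylow 2 G))
  obtain ⟨g0, hg0⟩ := exists_conj_mem_sylow S (ea_isPGroup hA0)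
  set A := A0.map (MulAut.conj g0).toMonoidHom with hAdef
  have hA : Cfsg.IsElementaryAbelian 2 A := ea_map _ hA0
  have hA8 : 8 ≤ Nat.card A := eight_le hA (by
    rw [hAdef, card_map_of_injective (MulAut.conj g0).injective]; omega)
  have hAS : A ≤ (S : Subgroup G) := by
    rintro _ ⟨a, ha, rfl⟩
    exact hg0 a ha
  -- a normal four-subgroup
  obtain ⟨U, hU, hUS, hUn⟩ : ∃ U : Subgroup G, Four U ∧ U ≤ (S : Subgroup G) ∧
      (S : Subgroup G) ≤ normalizer (U : Set G) := by
    set A' := A.subgroupOf (S : Subgroup G)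
    have hA'c : Nat.card ↥A' = Nat.card ↥A := Nat.card_congr (subgroupOfEquivOfLe hAS).toEquiv
    obtain ⟨n, hn⟩ := (ea_isPGroup hA).exists_card_eq
    have hn3 : 3 ≤ n := (Nat.pow_le_pow_iff_right (le_refl 2)).1 (by rw [← hn]; exact hA8)
    obtain ⟨E, hE⟩ := Sylow.exists_subgroup_card_pow_prime 2 (G := ↥A') (n := 3)
      (by rw [hA'c, hn]; exact pow_dvd_pow 2 hn3)
    obtain ⟨V, hVn, hV4, hVsq⟩ := NormalFour.exists_normal_four S.2 (E := E.map A'.subtype)
      (by rw [card_map_of_injective A'.subtype_injective, hE]; norm_num) (by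
        rintro _ ⟨e, -, rfl⟩
        refine Subtype.ext ?_
        have := hA.2 ((e : ↥(S : Subgroup G)) : G) e.2
        simpa [pow_two] using this)
    refine ⟨V.map (S : Subgroup G).subtype, ⟨?_, ?_⟩, map_subtype_le _, ?_⟩
    · rw [card_map_of_injective (S : Subgroup G).subtype_injective, hV4]
    · rintro _ ⟨v, hv, rfl⟩
      rw [← map_mul, hVsq v hv, map_one]
    · refine (normal_subgroupOf_iff_le_normalizer (map_subtype_le _)).1 ?_
      rw [show (V.map (S : Subgroup G).subtype).subgroupOf (S : Subgroup G) = V from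
        comap_map_eq_self_of_injective (S : Subgroup G).subtype_injective _]
      exact hVn
  let θ : G → Subgroup G := fun a => core π (centralizer ({a} : Set G))
  have Θ : Equivariant 2 θ := hm.equivariant
  -- the index of a centraliser of a normal four-subgroup
  have hhalf : ∀ (W B : Subgroup G), Four W → W ≤ (S : Subgroup G) → (S : Subgroup G) ≤ normalizer (W : Set G) →
      B ≤ (S : Subgroup G) → Nat.card B ≤ 2 * Nat.card ↥(B ⊓ centralizer (W : Set G)) := by
    intro W B hW hWS hWn hBS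
    set C := B ⊓ centralizer (W : Set G)
    by_cases hall : B ≤ centralizer (W : Set G)
    · rw [show C = B from inf_eq_left.2 hall]; omega
    obtain ⟨b, hb, hbC⟩ := SetLike.not_le_iff_exists.1 hall
    rw [two_mul, ← Nat.card_sum]
    refine Nat.card_le_card_of_surjective (Sum.elim (fun c : ↥C => (⟨c, c.2.1⟩ : ↥B))
      (fun c : ↥C => ⟨b * c, mul_mem hb c.2.1⟩)) fun x => ?_
    by_cases hxC : (x : G) ∈ centralizer (W : Set G)
    · exact ⟨Sum.inl ⟨x, x.2, hxC⟩, rfl⟩
    · refine ⟨Sum.inr ⟨b⁻¹ * x, B.mul_mem (B.inv_mem hb) x.2, ?_⟩, Subtype.ext (by simp)⟩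
      show b⁻¹ * (x : G) ∈ centralizer (W : Set G)
      rw [comm_mul_iff S hW hWS hWn _ ((S : Subgroup G).inv_mem (hBS hb)) _ (hBS x.2),
        inv_mem_iff]
      simp [hxC, hbC]
  -- a normal four-subgroup in an elementary subgroup of order eight
  have hbig : ∀ (W : Subgroup G), Four W → W ≤ (S : Subgroup G) → (S : Subgroup G) ≤ normalizer (W : Set G) →
      ∀ B : Subgroup G, Cfsg.IsElementaryAbelian 2 B → 8 ≤ Nat.card B → B ≤ (S : Subgroup G) →
      ∃ B', W ≤ B' ∧ Cfsg.IsElementaryAbelian 2 B' ∧ 8 ≤ Nat.card B' ∧ B' ≤ (S : Subgroup G) ∧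
        thetaClosure θ B = thetaClosure θ B' := by
    intro W hW hWS hWn B hB hB8 hBS
    by_cases hWB : W ≤ B
    · exact ⟨B, hWB, hB, hB8, hBS, rfl⟩
    set D := B ⊓ centralizer (W : Set G) with hD
    have hD4 : 4 ≤ Nat.card D := by
      have := hhalf W B hW hWS hWn hBS
      rw [← hD] at this
      omega
    have hB' : Cfsg.IsElementaryAbelian 2 (D ⊔ W) := ea_sup (ea_mono hB inf_le_left) hW.ea
      fun a ha b hb => (mem_centralizer_iff.1 ha.2 b hb).symm
    have hB'8 : 8 ≤ Nat.card ↥(D ⊔ W) := by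
      refine card_ge_of_lt (k := 2) (E := W) hB' (lt_of_le_of_ne le_sup_right fun e => hWB ?_) (by rw [hW.card]; norm_num)
      have hDW : D ≤ W := e ▸ le_sup_left
      rw [← eq_of_le_of_card_ge hDW (by rw [hW.card]; exact hD4)]
      exact inf_le_left
    refine ⟨D ⊔ W, le_sup_right, hB', hB'8, sup_le (inf_le_left.trans hBS) hWS, ?_⟩
    rw [Θ.closure_eq (by norm_num; exact hD4) inf_le_left hB (by norm_num; exact hB8),
      Θ.closure_eq (E := D) (by norm_num; exact hD4) le_sup_left hB' (by norm_num; exact hB'8)]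
  obtain ⟨B0, hUB0, hB0, hB08, hB0S, -⟩ := hbig U hU hUS hUn A hA hA8 hAS
  set W := thetaClosure θ B0 with hWdef
  have hconst : ∀ B : Subgroup G, Cfsg.IsElementaryAbelian 2 B → 8 ≤ Nat.card B → B ≤ (S : Subgroup G) →
      thetaClosure θ B = W := by
    intro B hB hB8 hBS
    obtain ⟨B', hUB', hB', hB'8, -, e⟩ := hbig U hU hUS hUn B hB hB8 hBS
    rw [e, hWdef, Θ.closure_eq (by rw [hU.card]; norm_num) hUB' hB' (by norm_num; exact hB'8),
      Θ.closure_eq (by rw [hU.card]; norm_num) hUB0 hB0 (by norm_num; exact hB08)]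
  have hmapc : ∀ (B : Subgroup G) (g : G), Cfsg.IsElementaryAbelian 2 B → 8 ≤ Nat.card B →
      thetaClosure θ (B.map (MulAut.conj g).toMonoidHom) =
        (thetaClosure θ B).map (MulAut.conj g).toMonoidHom := fun B g hB hB8 =>
    Θ.closure_conj hB (by norm_num; exact hB8) g
  have hcommon : ∀ (R B B' : Subgroup G), IsPGroup 2 R → Cfsg.IsElementaryAbelian 2 B → 8 ≤ Nat.card B →
      Cfsg.IsElementaryAbelian 2 B' → 8 ≤ Nat.card B' → B ≤ R → B' ≤ R →
      thetaClosure θ B = thetaClosure θ B' := by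
    intro R B B' hR hB hB8 hB' hB'8 hBR hB'R
    obtain ⟨r, hr⟩ := exists_conj_mem_sylow S hR
    refine map_injective (f := (MulAut.conj r).toMonoidHom) (MulAut.conj r).injective ?_
    rw [← hmapc B r hB hB8, ← hmapc B' r hB' hB'8, hconst _ (ea_map _ hB) ?_ ?_, hconst _ (ea_map _ hB') ?_ ?_]
    · rwa [card_map_of_injective (MulAut.conj r).injective]
    · rintro _ ⟨x, hx, rfl⟩; exact hr x (hB'R hx)
    · rwa [card_map_of_injective (MulAut.conj r).injective]
    · rintro _ ⟨x, hx, rfl⟩; exact hr x (hBR hx)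
  -- every involution of the Sylow subgroup lies in an elementary subgroup of order eight
  have hin : ∀ t ∈ (S : Subgroup G), orderOf t = 2 →
      ∃ B, t ∈ B ∧ Cfsg.IsElementaryAbelian 2 B ∧ 8 ≤ Nat.card B ∧ B ≤ (S : Subgroup G) := by
    intro t htS ht
    obtain ⟨V, hV, hVS, hVn, htV⟩ := exists_centralised hm S hU hUS hUn htS
    by_cases htV' : t ∈ V
    · obtain ⟨B', hVB', hB', hB'8, hB'S, -⟩ := hbig V hV hVS hVn B0 hB0 hB08 hB0S
      exact ⟨B', hVB' htV', hB', hB'8, hB'S⟩
    have hB : Cfsg.IsElementaryAbelian 2 (V ⊔ zpowers t) :=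
      ea_sup hV.ea (ea_zpowers (by rw [← ht, pow_orderOf_eq_one])) fun a ha b hb => by
        obtain ⟨i, rfl⟩ := mem_zpowers_iff.1 hb
        exact ((show Commute a t from mem_centralizer_iff.1 htV a ha).zpow_right i).eq
    refine ⟨V ⊔ zpowers t, mem_sup_right (mem_zpowers t), hB, ?_, sup_le hVS (zpowers_le.2 htS)⟩
    exact card_ge_of_lt (k := 2) (E := V) hB (lt_of_le_of_ne le_sup_left fun e =>
      htV' (e ▸ mem_sup_right (mem_zpowers t))) (by rw [hV.card]; norm_num)
  have hθW : ∀ t ∈ (S : Subgroup G), orderOf t = 2 → θ t ≤ W := by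
    intro t htS ht
    obtain ⟨B, htB, hB, hB8, hBS⟩ := hin t htS ht
    rw [← hconst B hB hB8 hBS]
    exact le_iSup (fun b : {b : G // b ∈ B ∧ b ≠ 1} => θ b.1) ⟨t, htB, Invol.ne_one ht⟩
  by_cases hW1 : W = ⊥
  · -- all cores trivial: the Sylow subgroups intersect trivially
    have hcore : ∀ t : G, orderOf t = 2 → ∀ x : G, x * t = t * x → Pi' π x → x = 1 := by
      intro t ht x hxt hx
      obtain ⟨g, hg⟩ := exists_conj_mem_sylow S (zpowers_two ht)
      have h1 : θ (g * t * g⁻¹) = ⊥ :=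
        le_bot_iff.1 ((hθW _ (hg t (mem_zpowers t)) (by rw [Invol.order_conj, ht])).trans hW1.le)
      have h2 : g * x * g⁻¹ ∈ θ (g * t * g⁻¹) := by
        refine (hm.closed_cent (fun e => Invol.ne_one ht (conj_eq_one_iff.1 e)) _).2 ⟨?_, pi'_conj g hx⟩
        rw [mem_centralizer_singleton_iff, show g * x * g⁻¹ * (g * t * g⁻¹) = g * (x * t) * g⁻¹ by group, hxt]
        group
      rw [h1, mem_bot] at h2
      exact conj_eq_one_iff.1 h2
    have hTI : ∀ (k : ℕ) (R R' : Sylow 2 G), (R : Subgroup G) ⊓ R' ≠ ⊥ →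
        Nat.card (S : Subgroup G) - Nat.card ↥((R : Subgroup G) ⊓ R') = k → R = R' := by
      intro k
      induction k using Nat.strong_induction_on with
      | _ k ih =>
        intro R R' hne hk
        by_contra hRR
        set D := (R : Subgroup G) ⊓ R' with hD
        have hDp : IsPGroup 2 ↥D := R.2.to_le inf_le_left
        have hlt : D < (R : Subgroup G) := lt_of_le_of_ne inf_le_left fun e =>
          hRR (Sylow.ext (R.3 R'.2 (inf_eq_left.1 e)).symm)
        have hlt' : D < (R' : Subgroup G) := lt_of_le_of_ne inf_le_right fun e =>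
          hRR (Sylow.ext (R'.3 R.2 (inf_eq_right.1 e)))
        set N := normalizer (D : Set G)
        have hNc : Closed π N := hm.closed_two hDp hne
        obtain ⟨d, hd⟩ : ∃ d : ↥D, orderOf d = 2 := by
          refine exists_prime_orderOf_dvd_card' 2 ?_
          obtain ⟨n, hn⟩ := hDp.exists_card_eq
          rcases n with _ | n
          · exact absurd (Subgroup.eq_bot_of_card_eq D (by simpa using hn)) hne
          · rw [hn]; exact dvd_pow_self 2 (Nat.succ_ne_zero n)
        have hKbot : ∀ x ∈ core π N, x = 1 := fun x hx => by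
          refine hcore (d : G) (by rw [Subgroup.orderOf_coe, hd]) x ?_ ((hNc x).1 hx).2
          exact core_centralizes hNc (PiSub.of_isPGroup hDp hm.tc.two) le_normalizer hx d.2
            ((mem_normalizer_iff.1 (core_le N hx) _).1 d.2)
        obtain ⟨H, T, f⟩ := hNc.exists_frame hm.tc
        obtain ⟨R'', hR''⟩ := f.two.exists_le_sylow
        have hinto : ∀ Q : Sylow 2 G, (Q : Subgroup G) ⊓ N ≤ (R'' : Subgroup G) := by
          intro Q a ha
          obtain ⟨k1, hk1, h1⟩ := f.conj_into hm.tc hNc (Q.2.to_le inf_le_left) inf_le_right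
          have := h1 a ha
          rw [hKbot k1 hk1, inv_one, one_mul, mul_one] at this
          exact hR'' this
        have step : ∀ Q : Sylow 2 G, D < (Q : Subgroup G) → Q = R'' := by
          intro Q hQ
          have h1 : D < (Q : Subgroup G) ⊓ N := Fusion.lt_inf_normalizer (Fusion.sylow_isNilpotent Q) hQ
          have h2 : D < (Q : Subgroup G) ⊓ R'' := lt_of_lt_of_le h1 (le_inf inf_le_left (hinto Q))
          have h3 : Nat.card ↥D < Nat.card ↥((Q : Subgroup G) ⊓ R'') := by
            by_contra hge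
            exact h2.ne (eq_of_le_of_card_ge h2.le (not_lt.1 hge))
          have h4 : Nat.card ↥((Q : Subgroup G) ⊓ R'') ≤ Nat.card (S : Subgroup G) := by
            rw [Sylow.card_eq_multiplicity S, ← Sylow.card_eq_multiplicity Q]
            exact Nat.le_of_dvd Nat.card_pos (card_dvd_of_le inf_le_left)
          exact ih _ (by omega) Q R'' (fun e => hne (le_bot_iff.1 (h2.le.trans e.le))) rfl
        exact hRR ((step R hlt).trans (step R' hlt').symm)
    set M := normalizer ((S : Subgroup G) : Set G)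
    refine hm.se_false (M := M) ⟨hm.normalizer_ne_top (hm.sylow_ne_bot S) (hm.ne_top_of_isPGroup S.2), ?_,
      fun g hgM => ?_⟩ hU (hUS.trans le_normalizer)
    · refine even_iff_two_dvd.2 (dvd_trans ?_ (card_dvd_of_le (hUS.trans le_normalizer)))
      rw [hU.card]; norm_num
    · rw [← Nat.not_even_iff_odd]
      intro hev
      obtain ⟨t, ⟨htM, htM'⟩, ht⟩ := Invol.exists_invol hev
      have hS' : ∀ t ∈ M, orderOf t = 2 → t ∈ (S : Subgroup G) := fun t htM ht =>
        (S.3 ((zpowers_two ht).to_sup_of_normal_right' S.2 (zpowers_le.2 htM)) le_sup_right).le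
          (mem_sup_left (mem_zpowers t))
      have h1 := hS' t htM ht
      have h2 : g⁻¹ * t * g ∈ (S : Subgroup G) := hS' _ (Invol.mem_conj_map.1 htM') (by
        rw [show g⁻¹ * t * g = g⁻¹ * t * g⁻¹⁻¹ by group, Invol.order_conj, ht])
      have hS2 : g • S = S := by
        refine hTI _ (g • S) S (fun e => Invol.ne_one ht ?_) rfl
        refine mem_bot.1 (e.le ⟨?_, h1⟩)
        show t ∈ ((g • S : Sylow 2 G) : Subgroup G)
        rw [Sylow.coe_subgroup_smul, mem_pointwise_smul_iff_inv_smul_mem, ← map_inv, MulAut.smul_def,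
          MulAut.conj_apply, inv_inv]
        exact h2
      exact hgM (Sylow.smul_eq_iff_mem_normalizer.1 hS2)
  · set M := normalizer (W : Set G)
    have hWodd : ¬ 2 ∣ Nat.card ↥W := (iSup_props hB0 (by norm_num; exact hB08) (Θ.functor hB0 (by norm_num; exact hB08))).1.2.1
    have hMne : M ≠ ⊤ := by
      refine hm.normalizer_ne_top hW1 fun htop => ?_
      apply hWodd
      rw [htop, Subgroup.card_top]
      obtain ⟨t, ht⟩ := hm.exists_involution
      exact ht ▸ orderOf_dvd_natCard t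
    have hNS : ∀ n ∈ normalizer ((S : Subgroup G) : Set G), n ∈ M := by
      intro n hn
      rw [mem_normalizer_iff_map_conj_eq]
      show W.map (MulAut.conj n).toMonoidHom = W
      rw [hWdef, ← hmapc B0 n hB0 hB08]
      refine hconst _ (ea_map _ hB0) (by rwa [card_map_of_injective (MulAut.conj n).injective]) ?_
      rintro _ ⟨x, hx, rfl⟩
      exact (mem_normalizer_iff.1 hn x).1 (hB0S hx)
    have hSM : (S : Subgroup G) ≤ M := fun s hs => hNS s (le_normalizer hs)
    refine hm.se_false (M := M) (Invol.se_of_centralizers hMne (S.subtype hSM) ?_ ?_ ?_) hU (hUS.trans hSM)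
    · refine even_iff_two_dvd.2 (dvd_trans ?_ (card_dvd_of_le (hUS.trans hSM)))
      rw [hU.card]; norm_num
    · rw [Sylow.coe_subtype, subgroupOf_map_subtype, inf_eq_left.2 hSM]
      exact hNS
    · intro v hvM hv
      obtain ⟨g, hgM, hg⟩ := SolvCores.exists_conj_le hSM (zpowers_two hv) (zpowers_le.2 hvM)
      set t := g * v * g⁻¹ with htdef
      have htS : t ∈ (S : Subgroup G) := hg ⟨v, mem_zpowers v, rfl⟩
      have ht : orderOf t = 2 := by rw [htdef, Invol.order_conj, hv]
      have key : centralizer ({t} : Set G) ≤ M := by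
        obtain ⟨B, htB, hB, hB8, hBS⟩ := hin t htS ht
        set X := centralizer ({t} : Set G) with hX
        have hXc : Closed π X := hm.closed_cent (Invol.ne_one ht)
        have hKM : core π X ≤ M := (hθW t htS ht).trans le_normalizer
        obtain ⟨H, T, f⟩ := hXc.exists_frame hm.tc
        have hBX : B ≤ X := fun b hb => mem_centralizer_singleton_iff.2 (ea_comm hB hb htB)
        obtain ⟨k1, hk1, h1⟩ := f.conj_into hm.tc hXc (ea_isPGroup hB) hBX
        set B' := B.map (MulAut.conj k1⁻¹).toMonoidHom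
        have hB'T : B' ≤ T := by
          rintro _ ⟨b, hb, rfl⟩
          simpa using h1 b hb
        have hB' : Cfsg.IsElementaryAbelian 2 B' := ea_map _ hB
        have hB'8 : 8 ≤ Nat.card B' := by rwa [card_map_of_injective (MulAut.conj k1⁻¹).injective]
        have hcl : thetaClosure θ B' = W := by
          rw [hmapc B k1⁻¹ hB hB8, hconst B hB hB8 hBS]
          exact mem_normalizer_iff_map_conj_eq.1 (inv_mem (hKM hk1))
        intro x hx
        obtain ⟨k2, hk2, y, hy, rfl⟩ := f.decomp x hx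
        refine mul_mem (hKM hk2) ?_
        rw [mem_normalizer_iff_map_conj_eq]
        show W.map (MulAut.conj y).toMonoidHom = W
        conv_lhs => rw [← hcl]
        rw [← hmapc B' y hB' hB'8, ← hcl]
        refine hcommon T _ _ f.two (ea_map _ hB') (by rwa [card_map_of_injective (MulAut.conj y).injective])
          hB' hB'8 ?_ hB'T
        rintro _ ⟨x, hx, rfl⟩
        exact (mem_normalizer_iff.1 (f.norm hy) x).1 (hB'T hx)
      intro x hx
      have hx' : g * x * g⁻¹ ∈ centralizer ({t} : Set G) := by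
        rw [← centralizer_map g v, Invol.mem_conj_map]
        simpa [mul_assoc] using hx
      have := mul_mem (mul_mem (inv_mem hgM) (key hx')) hgM
      simpa [mul_assoc] using this

end Minimal

end Cfsg.Agent.PiTwo
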