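import Cfsg.Agent.Lib.PiTwo.Local

/-!
A Sylow 2-subgroup of order 64 with a central four-subgroup containing all involutions, each of them a
square of twenty elements: in the minimal situation the centralisers of involutions have normal
2-complements.
-/

set_option autoImplicit false
set_option linter.style.haveILetI false
set_option linter.unusedSectionVars false

open scoped Pointwise

namespace Cfsg.Agent.PiTwo

open Subgroup

universe u

variable {G : Type u} [Group G] [Finite G] {π : Set ℕ}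

/-- The shape of the Sylow subgroup. -/
structure Squares (S : Sylow 2 G) (V : Subgroup G) : Prop where
  four : Four V
  le : V ≤ (S : Subgroup G)
  card : Nat.card (S : Subgroup G) = 64
  invol : ∀ s ∈ (S : Subgroup G), s * s = 1 → s ∈ V
  sq : ∀ s ∈ (S : Subgroup G), s * s ∈ V
  central : ∀ v ∈ V, ∀ s ∈ (S : Subgroup G), s * v = v * s
  fibre : ∀ v ∈ V, v ≠ 1 → Nat.card {s : G // s ∈ (S : Subgroup G) ∧ s * s = v} = 20

theorem five_odd : ∀ z : ZMod 5, ∀ e : Fin 4, e.1 % 2 = 1 → z ^ e.1 = 1 → z = 1 := by decide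

theorem five_pow : ∀ z : ZMod 5, z = 0 ∨ z ^ 4 = 1 := by decide

namespace Squares

variable {S : Sylow 2 G} {V : Subgroup G} (q : Squares S V)
include q

theorem four_le {A : Subgroup G} (hA : Four A) (hAS : A ≤ (S : Subgroup G)) : A = V :=
  eq_of_le_of_card_ge (fun a ha => q.invol a (hAS ha) (hA.sq a ha)) (by rw [q.four.card, hA.card])

theorem four_unique {R A B : Subgroup G} (hR : IsPGroup 2 R) (hA : Four A) (hB : Four B) (hAR : A ≤ R)
    (hBR : B ≤ R) : A = B := by
  obtain ⟨g, hg⟩ := exists_conj_mem_sylow S hR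
  refine map_injective (f := (MulAut.conj g).toMonoidHom) (MulAut.conj g).injective ?_
  rw [q.four_le (hA.map g), q.four_le (hB.map g)]
  · rintro _ ⟨x, hx, rfl⟩; exact hg x (hBR hx)
  · rintro _ ⟨x, hx, rfl⟩; exact hg x (hAR hx)

/-- The fixed points of an element of odd prime-power order centralising the four-subgroup. -/
theorem dichotomy {r : ℕ} [Fact r.Prime] (hr : r ≠ 2) {y : G} (hy : IsPGroup r ↥(zpowers y))
    (hyS : y ∈ normalizer ((S : Subgroup G) : Set G)) (hyV : y ∈ centralizer (V : Set G)) :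
    y ∈ centralizer ((S : Subgroup G) : Set G) ∨
      (r = 5 ∧ ∀ s ∈ (S : Subgroup G), s * y = y * s → s ∈ V) := by
  classical
  haveI : Fact (Nat.Prime 2) := ⟨Nat.prime_two⟩
  have hyv : ∀ v ∈ V, v * y = y * v := fun v hv => mem_centralizer_iff.1 hyV v hv
  have hz : ∀ p ∈ zpowers y, p ∈ normalizer ((S : Subgroup G) : Set G) ∧ ∀ v ∈ V, v * p = p * v :=
    fun p hp => ⟨zpowers_le.2 hyS hp, fun v hv => mem_centralizer_iff.1 (zpowers_le.2 hyV hp) v hv⟩
  set C := (S : Subgroup G) ⊓ centralizer ({y} : Set G) with hC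
  have hfix : ∀ v ∈ V, v ≠ 1 → Nat.card {c : G // c ∈ C ∧ c * c = v} ≤ 20 ∧
      4 ∣ Nat.card {c : G // c ∈ C ∧ c * c = v} ∧
      r ∣ 20 - Nat.card {c : G // c ∈ C ∧ c * c = v} := by
    intro v hv hv1
    let F := {s : G // s ∈ (S : Subgroup G) ∧ s * s = v}
    letI : MulAction ↥(zpowers y) F :=
      { smul := fun p s => ⟨(p : G) * s.1 * (p : G)⁻¹, (mem_normalizer_iff.1 (hz p p.2).1 _).1 s.2.1, by
          rw [show (p : G) * s.1 * (p : G)⁻¹ * ((p : G) * s.1 * (p : G)⁻¹) = (p : G) * (s.1 * s.1) * (p : G)⁻¹ by group,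
            s.2.2, ← (hz p p.2).2 v hv, mul_inv_cancel_right]⟩
        one_smul := fun s => Subtype.ext (by
          show ((1 : ↥(zpowers y)) : G) * s.1 * ((1 : ↥(zpowers y)) : G)⁻¹ = s.1
          simp)
        mul_smul := fun p p' s => Subtype.ext (by
          show ((p * p' : ↥(zpowers y)) : G) * s.1 * ((p * p' : ↥(zpowers y)) : G)⁻¹ =
            (p : G) * ((p' : G) * s.1 * (p' : G)⁻¹) * (p : G)⁻¹
          rw [Subgroup.coe_mul]; group) }
    have he : Nat.card (MulAction.fixedPoints ↥(zpowers y) F) = Nat.card {c : G // c ∈ C ∧ c * c = v} :=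
      Nat.card_congr
        { toFun := fun s => ⟨s.1.1, ⟨s.1.2.1, mem_centralizer_singleton_iff.2 (by
            have h1 : y * s.1.1 * y⁻¹ = s.1.1 :=
              congrArg Subtype.val (MulAction.mem_fixedPoints.1 s.2 ⟨y, mem_zpowers y⟩)
            exact (mul_inv_eq_iff_eq_mul.1 h1).symm)⟩, s.1.2.2⟩
          invFun := fun c => ⟨⟨c.1, c.2.1.1, c.2.2⟩, MulAction.mem_fixedPoints.2 fun p => Subtype.ext (by
            show (p : G) * c.1 * (p : G)⁻¹ = c.1
            have hc : Commute y c.1 := (mem_centralizer_singleton_iff.1 c.2.1.2).symm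
            obtain ⟨i, hi⟩ := mem_zpowers_iff.1 p.2
            rw [← hi, (hc.zpow_left i).eq, mul_inv_cancel_right])⟩
          left_inv := fun s => Subtype.ext (Subtype.ext rfl)
          right_inv := fun c => Subtype.ext rfl }
    have hle : Nat.card {c : G // c ∈ C ∧ c * c = v} ≤ 20 := by
      rw [← he, ← q.fibre v hv hv1]; exact Finite.card_subtype_le _
    refine ⟨hle, ?_, ?_⟩
    · let A := {c : G // c ∈ C ∧ c * c = v}
      letI : MulAction ↥V A :=
        { smul := fun w c => ⟨(w : G) * c.1, ⟨mul_mem (q.le w.2) c.2.1.1, mem_centralizer_singleton_iff.2 (by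
              rw [mul_assoc, mem_centralizer_singleton_iff.1 c.2.1.2, ← mul_assoc, hyv w w.2, mul_assoc])⟩, by
            calc (w : G) * c.1 * ((w : G) * c.1) = (w : G) * (c.1 * w) * c.1 := by group
              _ = (w : G) * ((w : G) * c.1) * c.1 := by rw [q.central w w.2 c.1 c.2.1.1]
              _ = ((w : G) * w) * (c.1 * c.1) := by group
              _ = v := by rw [q.four.sq w w.2, c.2.2, one_mul]⟩
          one_smul := fun c => Subtype.ext (one_mul _)
          mul_smul := fun a b c => Subtype.ext (mul_assoc _ _ _) }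
      rw [← q.four.card]
      refine FrattiniAut.card_dvd_of_free fun c => eq_bot_iff.2 fun w hw => ?_
      have h1 : (w : G) * c.1 = c.1 := congrArg Subtype.val (MulAction.mem_stabilizer_iff.1 hw)
      exact mem_bot.2 (Subtype.ext (mul_eq_right.1 h1))
    · have hmod := (hy.card_modEq_card_fixedPoints F).symm
      rw [he, q.fibre v hv hv1] at hmod
      exact (Nat.modEq_iff_dvd' hle).1 hmod
  obtain ⟨z, hzV, hz1, -⟩ := q.four.exists_ne (z := (1 : G))
  obtain ⟨u, huV, hu1, huz⟩ := q.four.exists_ne (z := z)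
  have hzu1 : z * u ≠ 1 := fun h => huz ((eq_inv_of_mul_eq_one_right h).trans
    (inv_eq_of_mul_eq_one_right (q.four.sq z hzV)))
  letI : Fintype ↥C := Fintype.ofFinite _
  let fC : ↥C → G := fun c => (c : G) * c
  have hsum : Nat.card ↥C = 4 + Nat.card {c : G // c ∈ C ∧ c * c = z} + Nat.card {c : G // c ∈ C ∧ c * c = u} +
      Nat.card {c : G // c ∈ C ∧ c * c = z * u} := by
    have hmaps : ∀ c ∈ (Finset.univ : Finset ↥C), fC c ∈ ({1, z, u, z * u} : Finset G) := by
      intro c _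
      simp only [Finset.mem_insert, Finset.mem_singleton]
      exact q.four.cases hzV huV hz1 hu1 huz.symm (q.sq _ c.2.1)
    have h := Finset.card_eq_sum_card_fiberwise hmaps
    have hfib : ∀ v : G, (Finset.univ.filter fun c : ↥C => fC c = v).card = Nat.card {c : G // c ∈ C ∧ c * c = v} := by
      intro v
      rw [← Fintype.card_subtype, ← Nat.card_eq_fintype_card]
      exact Nat.card_congr
        { toFun := fun c => ⟨c.1.1, c.1.2, c.2⟩
          invFun := fun c => ⟨⟨c.1, c.2.1⟩, c.2.2⟩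
          left_inv := fun c => rfl
          right_inv := fun c => rfl }
    have h1 : Nat.card {c : G // c ∈ C ∧ c * c = 1} = 4 := by
      rw [← q.four.card]
      exact Nat.card_congr
        { toFun := fun c => ⟨c.1, q.invol _ c.2.1.1 c.2.2⟩
          invFun := fun v => ⟨v.1, ⟨q.le v.2, mem_centralizer_singleton_iff.2 (hyv _ v.2)⟩, q.four.sq _ v.2⟩
          left_inv := fun c => rfl
          right_inv := fun v => rfl }
    rw [Finset.card_univ, ← Nat.card_eq_fintype_card] at h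
    rw [h, Finset.sum_insert, Finset.sum_insert, Finset.sum_pair, hfib, hfib, hfib, hfib, h1]
    · omega
    · exact fun e => hz1 (mul_eq_right.1 e.symm)
    · simp only [Finset.mem_insert, Finset.mem_singleton, not_or]
      exact ⟨huz.symm, fun e => hu1 (mul_eq_left.1 e.symm)⟩
    · simp only [Finset.mem_insert, Finset.mem_singleton, not_or]
      exact ⟨hz1.symm, hu1.symm, hzu1.symm⟩
  obtain ⟨a1, a2, a3⟩ := hfix z hzV hz1
  obtain ⟨b1, b2, b3⟩ := hfix u huV hu1
  obtain ⟨c1, c2, c3⟩ := hfix _ (mul_mem hzV huV) hzu1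
  set a := Nat.card {c : G // c ∈ C ∧ c * c = z}
  set b := Nat.card {c : G // c ∈ C ∧ c * c = u}
  set c := Nat.card {c : G // c ∈ C ∧ c * c = z * u}
  have hCd : Nat.card ↥C ∣ 2 ^ 6 := by
    rw [show (2 : ℕ) ^ 6 = 64 by norm_num, ← q.card]
    exact card_dvd_of_le inf_le_left
  obtain ⟨e, he6, he⟩ := (Nat.dvd_prime_pow Nat.prime_two).1 hCd
  have hfull : Nat.card ↥C = 64 → y ∈ centralizer ((S : Subgroup G) : Set G) := by
    intro h
    have hCS : C = (S : Subgroup G) := eq_of_le_of_card_ge inf_le_left (by rw [q.card, h])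
    exact mem_centralizer_iff.2 fun s hs => mem_centralizer_singleton_iff.1 (hCS.ge hs).2
  have hr' : r = 3 ∨ r = 5 ∨ 7 ≤ r := by
    have h1 := (Fact.out : r.Prime)
    rcases Nat.lt_or_ge r 7 with hlt | hge
    · have := h1.two_le
      interval_cases r <;> first | omega | (exfalso; revert h1; norm_num)
    · omega
  rcases hr' with rfl | rfl | h7
  · refine Or.inl (hfull ?_)
    rw [hsum]
    interval_cases e <;> omega
  · by_cases h64 : Nat.card ↥C = 64
    · exact Or.inl (hfull h64)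
    refine Or.inr ⟨rfl, fun s hs hsy => ?_⟩
    have hCV : V ≤ C := fun v hv => ⟨q.le hv, mem_centralizer_singleton_iff.2 (hyv _ hv)⟩
    have h4 : Nat.card ↥C = 4 := by
      interval_cases e <;> omega
    rw [eq_of_le_of_card_ge hCV (by rw [h4, q.four.card])]
    exact ⟨hs, mem_centralizer_singleton_iff.2 hsy⟩
  · refine Or.inl (hfull ?_)
    have key : ∀ n : ℕ, n ≤ 20 → 4 ∣ n → r ∣ 20 - n → n = 20 := by
      intro n hn h4 hrn
      by_contra hne
      have hd : 4 * r ∣ 20 - n := (((Nat.coprime_primes Nat.prime_two (Fact.out : r.Prime)).2 hr.symm).pow_left 2).mul_dvd_of_dvd_of_dvd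
        (Nat.dvd_sub (by norm_num) h4) hrn
      have := Nat.le_of_dvd (by omega) hd
      omega
    rw [hsum, key a a1 a2 a3, key b b1 b2 b3, key c c1 c2 c3]

variable (hm : Minimal π G)
include hm

/-- No element of the centraliser of the four-subgroup acts with fixed points only there. -/
theorem centralizes {r : ℕ} [Fact r.Prime] (hr : r ≠ 2) {y : G} (hy : IsPGroup r ↥(zpowers y))
    (hyS : y ∈ normalizer ((S : Subgroup G) : Set G)) (hyV : y ∈ centralizer (V : Set G)) :
    y ∈ centralizer ((S : Subgroup G) : Set G) := by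
  classical
  haveI : Fact (Nat.Prime 2) := ⟨Nat.prime_two⟩
  by_contra hns
  obtain ⟨rfl, -⟩ := (q.dichotomy hr hy hyS hyV).resolve_left hns
  set X := centralizer (V : Set G) with hXdef
  have hXc : Closed π X := hm.proper X (hm.centralizer_ne_top q.four.ne_bot)
  have hSX : (S : Subgroup G) ≤ X := fun s hs => mem_centralizer_iff.2 fun v hv => (q.central v hv s hs).symm
  have h5 : (5 : ℕ) ∈ π := by
    by_contra h5
    obtain ⟨n, hn⟩ := hy.exists_card_eq
    rw [Nat.card_zpowers] at hn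
    have hyK : y ∈ core π X := (hXc y).2 ⟨hyV, pi'_of_pow_prime Fact.out hn h5⟩
    refine hns (mem_centralizer_iff.2 fun s hs => (core_centralizes hXc (PiSub.of_isPGroup S.2 hm.tc.two) hSX hyK hs ?_).symm)
    exact (mem_normalizer_iff.1 hyS s).1 hs
  obtain ⟨H, f⟩ := exists_frame_sylow hm.tc hXc S hSX
  -- a Sylow 5-subgroup
  set M := X ⊓ normalizer ((S : Subgroup G) : Set G) with hM
  have hyM : zpowers y ≤ M := zpowers_le.2 ⟨hyV, hyS⟩
  obtain ⟨P0, hP0⟩ := (hy.comap_subtype (K := M)).exists_le_sylow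
  set P := (P0 : Subgroup ↥M).map M.subtype with hP
  have hPp : IsPGroup 5 ↥P := P0.2.map _
  have hyP : y ∈ P := ⟨⟨y, hyM (mem_zpowers y)⟩, hP0 (show y ∈ zpowers y from mem_zpowers y), rfl⟩
  have hPM : P ≤ M := map_subtype_le _
  have hPne : P ≠ ⊥ := fun e => hns ((mem_bot.1 (e.le hyP)) ▸ one_mem _)
  have hidx : ¬ 5 ∣ P.relIndex X := by
    rw [← relIndex_mul_relIndex P M X hPM inf_le_left]
    intro hd
    rcases (Fact.out : Nat.Prime 5).dvd_mul.1 hd with h | h
    · rw [relIndex, show P.subgroupOf M = (P0 : Subgroup ↥M) from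
        comap_map_eq_self_of_injective M.subtype_injective _] at h
      exact P0.not_dvd_index h
    · refine hXc.not_mem_pi Fact.out (h.trans ((relIndex_dvd_of_le_left X (le_inf f.le f.norm)).trans ?_)) h5
      have h2 := PBasic.card_mul_relIndex f.le
      rw [f.card, mul_comm (Nat.card ↥(core π X))] at h2
      rw [Nat.eq_of_mul_eq_mul_left Nat.card_pos h2]
  have hbound : ∀ R : Subgroup G, IsPGroup 5 R → ∀ g : G, (∀ x ∈ R, g * x * g⁻¹ ∈ X) → Nat.card R ≤ Nat.card P := by
    intro R hR g hg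
    obtain ⟨m, hmR⟩ := hR.exists_card_eq
    have h1 : Nat.card ↥R ∣ Nat.card ↥X := by
      rw [← card_map_of_injective (K := R) (f := (MulAut.conj g).toMonoidHom) (MulAut.conj g).injective]
      refine card_dvd_of_le ?_
      rintro _ ⟨x, hx, rfl⟩
      exact hg x hx
    rw [← PBasic.card_mul_relIndex (hPM.trans inf_le_left), hmR] at h1
    rw [hmR]
    exact Nat.le_of_dvd Nat.card_pos
      ((Nat.Coprime.pow_left m ((Fact.out : Nat.Prime 5).coprime_iff_not_dvd.2 hidx)).dvd_of_dvd_mul_right h1)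
  have hVP : ∀ x ∈ P, V ≤ centralizer ({x} : Set G) := fun x hx v hv =>
    mem_centralizer_singleton_iff.2 (mem_centralizer_iff.1 (hPM hx).1 v hv)
  -- it is a Sylow subgroup of the group
  obtain ⟨Q, hQ⟩ := hPp.exists_le_sylow
  have hQP : (Q : Subgroup G) = P := by
    by_contra hne
    have hlt : P < (Q : Subgroup G) := lt_of_le_of_ne hQ (Ne.symm hne)
    set R := (Q : Subgroup G) ⊓ normalizer (P : Set G) with hR
    have hPR : P < R := Fusion.lt_inf_normalizer (Fusion.sylow_isNilpotent Q) hlt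
    have hRp : IsPGroup 5 ↥R := Q.2.to_le inf_le_left
    set Y := centralizer (P : Set G) with hY
    have hYc : Closed π Y := hm.proper Y (hm.centralizer_ne_top hPne)
    have hRY : R ≤ normalizer (Y : Set G) := fun x hx => by
      rw [mem_normalizer_iff_map_conj_eq]
      have hxP : P.map (MulAut.conj x).toMonoidHom = P := mem_normalizer_iff_map_conj_eq.1 hx.2
      refine eq_of_le_of_card_ge ?_ (card_map_of_injective (MulAut.conj x).injective).ge
      rintro _ ⟨c, hc, rfl⟩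
      refine mem_centralizer_iff.2 fun p hp => ?_
      obtain ⟨p', hp', rfl⟩ : p ∈ P.map (MulAut.conj x).toMonoidHom := hxP.ge hp
      show x * p' * x⁻¹ * (x * c * x⁻¹) = x * c * x⁻¹ * (x * p' * x⁻¹)
      rw [show x * p' * x⁻¹ * (x * c * x⁻¹) = x * (p' * c) * x⁻¹ by group, mem_centralizer_iff.1 hc p' hp']
      group
    obtain ⟨T, hTp, hTY, hTodd, hRT⟩ := exists_fixed_sylow hm.tc hYc h5 hRp hRY
    have hVY : V ≤ Y := fun v hv => mem_centralizer_iff.2 fun p hp =>
      (mem_centralizer_singleton_iff.1 (hVP p hp hv)).symm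
    obtain ⟨k, hk, hk'⟩ : ∃ k ∈ Y, ∀ v ∈ V, k * v * k⁻¹ ∈ T := by
      obtain ⟨W, hW⟩ := (q.four.isPGroup.comap_subtype (K := Y)).exists_le_sylow
      let TS : Sylow 2 ↥Y := (hTp.comap_subtype (K := Y)).toSylow hTodd
      obtain ⟨g, hg⟩ := MulAction.exists_smul_eq (↥Y) W TS
      refine ⟨g, g.2, fun v hv => ?_⟩
      have h1 := Subgroup.smul_mem_pointwise_smul (⟨v, hVY hv⟩ : ↥Y) (MulAut.conj g) _ (hW (show (⟨v, hVY hv⟩ : ↥Y) ∈ V.subgroupOf Y from hv))
      rw [← Sylow.coe_subgroup_smul, hg] at h1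
      exact h1
    set A := V.map (MulAut.conj k).toMonoidHom with hA
    have hAT : A ≤ T := by
      rintro _ ⟨v, hv, rfl⟩
      exact hk' v hv
    have hcen : R ≤ centralizer (A : Set G) := by
      intro x hx
      refine (q.four.map k).centralised (by norm_num : 3 < 5) (hRp.to_le (zpowers_le.2 hx)) ?_
      rw [mem_normalizer_iff_map_conj_eq]
      have hxT : T.map (MulAut.conj x).toMonoidHom = T := mem_normalizer_iff_map_conj_eq.1 (hRT hx)
      refine q.four_unique hTp ((q.four.map k).map x) (q.four.map k) ?_ hAT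
      rw [← hxT]
      exact map_mono hAT
    have hb := hbound R hRp k⁻¹ fun x hx => mem_centralizer_iff.2 fun v hv => by
      have h1 : k * v * k⁻¹ * x = x * (k * v * k⁻¹) :=
        mem_centralizer_iff.1 (hcen hx) _ ⟨v, hv, rfl⟩
      calc v * (k⁻¹ * x * k⁻¹⁻¹) = k⁻¹ * (k * v * k⁻¹ * x) * k := by group
        _ = k⁻¹ * (x * (k * v * k⁻¹)) * k := by rw [h1]
        _ = _ := by group
    exact hPR.ne (eq_of_le_of_card_ge hPR.le hb)
  -- the normaliser of the four-subgroup and its action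
  set Z := normalizer (V : Set G) with hZdef
  have hZc : Closed π Z := hm.closed_two q.four.isPGroup q.four.ne_bot
  have hXZ : X ≤ Z := centralizer_le_normalizer _
  obtain ⟨HZ, fZ⟩ := exists_frame_sylow hm.tc hZc S (hSX.trans hXZ)
  set C0 := centralizer ((S : Subgroup G) : Set G) with hC0
  have hP0ne : ¬ P ≤ C0 := fun h => hns (h hyP)
  set L := ((S : Subgroup G) ⊔ C0) ⊓ M with hL
  have hSC : ∀ g ∈ normalizer ((S : Subgroup G) : Set G), ∀ x ∈ C0, g * x * g⁻¹ ∈ C0 := fun g hg x hx =>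
    mem_centralizer_iff.2 fun s hs => by
      have h1 := mem_centralizer_iff.1 hx (g⁻¹ * s * g) (by
        have := (mem_normalizer_iff.1 (inv_mem hg) s).1 hs
        rwa [inv_inv] at this)
      calc s * (g * x * g⁻¹) = g * (g⁻¹ * s * g * x) * g⁻¹ := by group
        _ = g * (x * (g⁻¹ * s * g)) * g⁻¹ := by rw [h1]
        _ = _ := by group
  have hLnorm : ∀ g ∈ normalizer ((S : Subgroup G) : Set G), g ∈ Z → ∀ x ∈ L, g * x * g⁻¹ ∈ L := by
    intro g hg hgZ x hx
    refine ⟨?_, mem_centralizer_iff.2 fun v hv => ?_,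
      (normalizer _).mul_mem ((normalizer _).mul_mem hg hx.2.2) ((normalizer _).inv_mem hg)⟩
    · have : ((S : Subgroup G) ⊔ C0).map (MulAut.conj g).toMonoidHom ≤ (S : Subgroup G) ⊔ C0 := by
        rw [Subgroup.map_sup]
        refine sup_le_sup ?_ ?_ <;> rintro _ ⟨z, hz, rfl⟩
        · exact (mem_normalizer_iff.1 hg z).1 hz
        · exact hSC g hg z hz
      exact this ⟨x, hx.1, rfl⟩
    · have hv' : g⁻¹ * v * g ∈ V := by
        have := (mem_normalizer_iff.1 (inv_mem hgZ) v).1 hv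
        rwa [inv_inv] at this
      have h1 := mem_centralizer_iff.1 hx.2.1 _ hv'
      calc v * (g * x * g⁻¹) = g * (g⁻¹ * v * g * x) * g⁻¹ := by group
        _ = g * (x * (g⁻¹ * v * g)) * g⁻¹ := by rw [h1]
        _ = _ := by group
  set L' := L.subgroupOf M with hL'
  haveI hL'n : L'.Normal := ⟨fun x hx g => hLnorm g g.2.2 (hXZ g.2.1) x hx⟩
  have hPL : ∀ x ∈ P, x ∈ L → x ∈ C0 := by
    intro x hx hxL
    have hCn : (S : Subgroup G) ≤ normalizer (C0 : Set G) := fun s hs => mem_normalizer_iff.2 fun z =>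
      ⟨hSC s (le_normalizer hs) z, fun h => by
        have := hSC s⁻¹ (inv_mem (le_normalizer hs)) _ h
        simpa [mul_assoc] using this⟩
    obtain ⟨s, hs, c, hc, hxe⟩ : ∃ s ∈ (S : Subgroup G), ∃ c ∈ C0, x = s * c := by
      have h1 : x ∈ ((S : Subgroup G) : Set G) * (C0 : Set G) := by
        rw [← coe_mul_of_left_le_normalizer_right _ _ hCn]
        exact hxL.1
      obtain ⟨s, hs, c, hc, e⟩ := h1
      exact ⟨s, hs, c, hc, e.symm⟩
    obtain ⟨i, hi⟩ := S.2 ⟨s, hs⟩
    have hsc : Commute s c := mem_centralizer_iff.1 hc s hs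
    have h2 : x ^ 2 ^ i ∈ C0 := by
      rw [hxe, hsc.mul_pow, show s ^ 2 ^ i = 1 from congrArg Subtype.val hi, one_mul]
      exact pow_mem hc _
    obtain ⟨n, hn⟩ := hPp ⟨x, hx⟩
    have hn' : x ^ 5 ^ n = 1 := congrArg Subtype.val hn
    have h3 := mul_mem (zpow_mem h2 (Nat.gcdA (2 ^ i) (5 ^ n)))
      (zpow_mem (show x ^ 5 ^ n ∈ C0 by rw [hn']; exact one_mem _) (Nat.gcdB (2 ^ i) (5 ^ n)))
    rw [← zpow_natCast x (2 ^ i), ← zpow_natCast x (5 ^ n), ← zpow_mul, ← zpow_mul, ← zpow_add,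
      ← Nat.gcd_eq_gcd_ab, Nat.Coprime.pow i n (by norm_num : Nat.Coprime 2 5), Nat.cast_one, zpow_one] at h3
    exact h3
  -- the quotient has order five
  have hr5 : ∀ p : ℕ, p.Prime → p ≠ 5 → ¬ p ∣ L'.index := by
    intro p hp hp5 hd
    haveI : Fact p.Prime := ⟨hp⟩
    obtain ⟨R⟩ := (inferInstance : Nonempty (Sylow p ↥M))
    refine R.not_dvd_index (hd.trans (index_dvd_of_le ?_))
    intro x hx
    have hzx : IsPGroup p ↥(zpowers (x : G)) :=
      (R.2.map M.subtype).to_le (zpowers_le.2 ⟨x, hx, rfl⟩)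
    refine ⟨?_, x.2⟩
    by_cases hp2 : p = 2
    · subst hp2
      exact mem_sup_left ((S.3 (hzx.to_sup_of_normal_right' S.2 (zpowers_le.2 x.2.2)) le_sup_right).le
        (mem_sup_left (mem_zpowers _)))
    · exact mem_sup_right ((q.dichotomy hp2 hzx x.2.2 x.2.1).resolve_right fun h => hp5 h.1)
  let mk := QuotientGroup.mk' L'
  have hcard5 : Nat.card (↥M ⧸ L') = 5 := by
    -- the orbit of an element of order four
    obtain ⟨s, hs, hsV⟩ : ∃ s ∈ (S : Subgroup G), s ∉ V := by
      by_contra! h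
      have := card_le_of_le (show (S : Subgroup G) ≤ V from h)
      rw [q.card, q.four.card] at this
      omega
    have hv : s * s ≠ 1 := fun h => hsV (q.invol s hs h)
    have hPn : ∀ p ∈ P, p ∈ normalizer ((S : Subgroup G) : Set G) ∧ p ∈ X := fun p hp => ⟨(hPM hp).2, (hPM hp).1⟩
    let F := {t : G // t ∈ (S : Subgroup G) ∧ t * t = s * s}
    letI : MulAction ↥P F :=
      { smul := fun p t => ⟨(p : G) * t.1 * (p : G)⁻¹, (mem_normalizer_iff.1 (hPn p p.2).1 _).1 t.2.1, by
          rw [show (p : G) * t.1 * (p : G)⁻¹ * ((p : G) * t.1 * (p : G)⁻¹) = (p : G) * (t.1 * t.1) * (p : G)⁻¹ by group,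
            t.2.2, ← mem_centralizer_iff.1 (hPn p p.2).2 _ (q.sq s hs), mul_inv_cancel_right]⟩
        one_smul := fun t => Subtype.ext (by
          show ((1 : ↥P) : G) * t.1 * ((1 : ↥P) : G)⁻¹ = t.1
          simp)
        mul_smul := fun p p' t => Subtype.ext (by
          show ((p * p' : ↥P) : G) * t.1 * ((p * p' : ↥P) : G)⁻¹ = (p : G) * ((p' : G) * t.1 * (p' : G)⁻¹) * (p : G)⁻¹
          rw [Subgroup.coe_mul]; group) }
    let t0 : F := ⟨s, hs, rfl⟩
    have hstab : MulAction.stabilizer ↥P t0 ≤ L.subgroupOf P := by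
      intro p hp
      have hp' : (p : G) * s * (p : G)⁻¹ = s := congrArg Subtype.val (MulAction.mem_stabilizer_iff.1 hp)
      refine ⟨mem_sup_right ?_, hPM p.2⟩
      refine (q.dichotomy hr (hPp.to_le (zpowers_le.2 p.2)) (hPn p p.2).1 (hPn p p.2).2).resolve_right fun h => ?_
      exact hsV (h.2 s hs (mul_inv_eq_iff_eq_mul.1 hp').symm)
    have h20 : Nat.card (MulAction.orbit ↥P t0) ≤ 20 := by
      rw [← q.fibre _ (q.sq s hs) hv]; exact Finite.card_subtype_le _
    rw [Nat.card_coe_set_eq, ← MulAction.index_stabilizer] at h20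
    obtain ⟨n, hn⟩ := hPp.index (MulAction.stabilizer ↥P t0)
    rw [hn] at h20
    have hn1 : n ≤ 1 := by
      by_contra h
      have h25 : 5 ^ 2 ≤ 5 ^ n := Nat.pow_le_pow_right (by norm_num) (by omega)
      omega
    have hLP : (L.subgroupOf P).index ∣ 5 := by
      refine (index_dvd_of_le hstab).trans ?_
      rw [hn]
      exact (pow_dvd_pow 5 hn1).trans (by norm_num)
    -- surjection
    set P' := P.subgroupOf M
    have htop : P' ⊔ L' = ⊤ := by
      refine index_eq_one.1 (Nat.eq_one_iff_not_exists_prime_dvd.2 fun p hp hd => ?_)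
      by_cases hp5 : p = 5
      · subst hp5
        refine P0.not_dvd_index (hd.trans (index_dvd_of_le (le_trans ?_ le_sup_left)))
        intro x hx
        exact ⟨x, hx, rfl⟩
      · exact hr5 p hp hp5 (hd.trans (index_dvd_of_le le_sup_right))
    have hidxL : L'.index ∣ 5 := by
      rw [← relIndex_top_right, ← htop, relIndex_sup_right]
      show (L.subgroupOf M).relIndex (P.subgroupOf M) ∣ 5
      rw [relIndex_subgroupOf hPM]
      exact hLP
    have hne1 : L'.index ≠ 1 := fun h => hP0ne fun x hx => hPL x hx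
      (show (⟨x, hPM hx⟩ : ↥M) ∈ L' from (index_eq_one.1 h).ge (mem_top _))
    exact ((Nat.dvd_prime (by norm_num)).1 hidxL).resolve_left hne1
  haveI : IsCyclic (↥M ⧸ L') := isCyclic_of_prime_card (p := 5) hcard5
  -- fusion
  refine hm.no_focal Q C0 (fun h => hP0ne (hQP ▸ h)) fun x hx g hg => ?_
  rw [hQP] at hx hg
  set x' := g * x * g⁻¹ with hx'def
  rcases eq_or_ne x 1 with hx1 | hx1
  · rw [hx'def, hx1]; simp
  have hx'1 : x' ≠ 1 := fun e => hx1 (conj_eq_one_iff.1 e)
  set Y := centralizer ({x'} : Set G)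
  have hVY : V ≤ Y := hVP x' hg
  have hgVY : V.map (MulAut.conj g).toMonoidHom ≤ Y := by
    rw [show Y = (centralizer ({x} : Set G)).map (MulAut.conj g).toMonoidHom from ?_]
    · exact map_mono (hVP x hx)
    · ext z
      rw [Invol.mem_conj_map, mem_centralizer_singleton_iff, mem_centralizer_singleton_iff, hx'def]
      constructor
      · intro h
        calc g⁻¹ * z * g * x = g⁻¹ * (z * (g * x * g⁻¹)) * g := by group
          _ = g⁻¹ * (g * x * g⁻¹ * z) * g := by rw [h]
          _ = _ := by group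
      · intro h
        calc z * (g * x * g⁻¹) = g * (g⁻¹ * z * g * x) * g⁻¹ := by group
          _ = g * (x * (g⁻¹ * z * g)) * g⁻¹ := by rw [h]
          _ = _ := by group
  obtain ⟨k, hk, R, hR, -, hBR, hAR⟩ := (hm.closed_cent hx'1).exists_join hm.tc (q.four.map g).isPGroup
    q.four.isPGroup hgVY hVY
  have hkY : k ∈ Y := core_le Y hk
  have hnZ : k * g ∈ Z := by
    rw [mem_normalizer_iff_map_conj_eq]
    refine q.four_unique hR (q.four.map _) q.four ?_ hBR
    rintro _ ⟨v, hv, rfl⟩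
    have h1 := hAR _ ⟨v, hv, rfl⟩
    simp only [MulEquiv.toMonoidHom_eq_coe, MonoidHom.coe_coe, MulAut.conj_apply] at h1 ⊢
    rwa [show k * g * v * (k * g)⁻¹ = k * (g * v * g⁻¹) * k⁻¹ by group]
  have hnx : k * g * x * (k * g)⁻¹ = x' := by
    rw [show k * g * x * (k * g)⁻¹ = k * x' * k⁻¹ by rw [hx'def]; group,
      mem_centralizer_singleton_iff.1 hkY, mul_inv_cancel_right]
  obtain ⟨k', hk', hh⟩ := fZ.conj_le_normalizer hnZ
  set h := k'⁻¹ * (k * g) with hhdef
  have hhZ : h ∈ Z := fZ.le hh.1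
  have hhS : h ∈ normalizer ((S : Subgroup G) : Set G) := hh.2
  have hconjM : ∀ z ∈ M, h * z * h⁻¹ ∈ M := by
    intro z hz
    refine ⟨mem_centralizer_iff.2 fun v hv => ?_,
      (normalizer _).mul_mem ((normalizer _).mul_mem hhS hz.2) ((normalizer _).inv_mem hhS)⟩
    have hv' : h⁻¹ * v * h ∈ V := by
      have := (mem_normalizer_iff.1 (inv_mem hhZ) v).1 hv
      rwa [inv_inv] at this
    have h1 := mem_centralizer_iff.1 hz.1 _ hv'
    calc v * (h * z * h⁻¹) = h * (h⁻¹ * v * h * z) * h⁻¹ := by group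
      _ = h * (z * (h⁻¹ * v * h)) * h⁻¹ := by rw [h1]
      _ = _ := by group
  have hxM : x ∈ M := hPM hx
  have hx'M : x' ∈ M := hPM hg
  -- same action
  have hsame : (⟨x', hx'M⟩ : ↥M)⁻¹ * ⟨h * x * h⁻¹, hconjM x hxM⟩ ∈ L' := by
    have hk1 : (h * x * h⁻¹)⁻¹ * x' ∈ core π Z := by
      have e : x' = k' * (h * x * h⁻¹) * k'⁻¹ := by rw [← hnx, hhdef]; group
      rw [e, show (h * x * h⁻¹)⁻¹ * (k' * (h * x * h⁻¹) * k'⁻¹) =
        ((h * x * h⁻¹)⁻¹ * k' * (h * x * h⁻¹)⁻¹⁻¹) * k'⁻¹ by group]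
      exact mul_mem (core_conj_mem (le_normalizer (inv_mem (hXZ (hconjM x hxM).1))) hk') (inv_mem hk')
    have hN : (h * x * h⁻¹)⁻¹ * x' ∈ normalizer ((S : Subgroup G) : Set G) :=
      mul_mem (inv_mem (hconjM x hxM).2) hx'M.2
    have hc : (h * x * h⁻¹)⁻¹ * x' ∈ C0 := mem_centralizer_iff.2 fun s hs =>
      (core_centralizes hZc (PiSub.of_isPGroup S.2 hm.tc.two) (hSX.trans hXZ) hk1 hs ((mem_normalizer_iff.1 hN s).1 hs)).symm
    have hcL : (h * x * h⁻¹)⁻¹ * x' ∈ L := ⟨mem_sup_right hc, M.mul_mem (M.inv_mem (hconjM x hxM)) hx'M⟩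
    show x'⁻¹ * (h * x * h⁻¹) ∈ L
    have := inv_mem hcL
    rwa [mul_inv_rev, inv_inv] at this
  let cM : ↥M →* ↥M :=
    { toFun := fun z => ⟨h * z * h⁻¹, hconjM z z.2⟩
      map_one' := Subtype.ext (by simp)
      map_mul' := fun a b => Subtype.ext (by simp only [Subgroup.coe_mul]; group) }
  let cQ : (↥M ⧸ L') →* (↥M ⧸ L') := QuotientGroup.map L' L' cM fun z hz => hLnorm h hhS hhZ z hz
  obtain ⟨j, hj⟩ := MonoidHom.map_cyclic cQ
  have hmkx : cQ (mk ⟨x, hxM⟩) = mk ⟨x', hx'M⟩ := by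
    show mk (cM ⟨x, hxM⟩) = _
    symm
    exact QuotientGroup.eq.2 hsame
  have hiter : ∀ (t : ℕ) (z : ↥M) (hz : h ^ t * z * (h ^ t)⁻¹ ∈ M),
      mk ⟨h ^ t * z * (h ^ t)⁻¹, hz⟩ = (mk z) ^ (j ^ t) := by
    intro t
    induction t with
    | zero =>
      intro z hz
      have e : (⟨h ^ 0 * z * (h ^ 0)⁻¹, hz⟩ : ↥M) = z := Subtype.ext (by simp)
      rw [e, pow_zero, zpow_one]
    | succ t ih =>
      intro z hz
      have hz1 : h ^ t * ((cM z : ↥M) : G) * (h ^ t)⁻¹ ∈ M := by
        have e : h ^ t * ((cM z : ↥M) : G) * (h ^ t)⁻¹ = h ^ (t + 1) * z * (h ^ (t + 1))⁻¹ := by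
          show h ^ t * (h * z * h⁻¹) * (h ^ t)⁻¹ = _
          rw [pow_succ]; group
        rw [e]; exact hz
      have h1 := ih (cM z) hz1
      have e : (⟨h ^ (t + 1) * z * (h ^ (t + 1))⁻¹, hz⟩ : ↥M) = ⟨h ^ t * ((cM z : ↥M) : G) * (h ^ t)⁻¹, hz1⟩ :=
        Subtype.ext (by
          show h ^ (t + 1) * z * (h ^ (t + 1))⁻¹ = h ^ t * (h * z * h⁻¹) * (h ^ t)⁻¹
          rw [pow_succ]; group)
      rw [e, h1, show mk (cM z) = cQ (mk z) from rfl, hj, ← zpow_mul, pow_succ']
  obtain ⟨a, m, hmodd, hord⟩ := Nat.exists_eq_two_pow_mul_odd (orderOf_pos h).ne'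
  have hhm : h ^ m ∈ (S : Subgroup G) := by
    have hp : IsPGroup 2 ↥(zpowers (h ^ m)) := by
      refine IsPGroup.of_card (n := a) ?_
      rw [Nat.card_zpowers, orderOf_pow_of_dvd hmodd.pos.ne' (hord ▸ Dvd.intro_left _ rfl), hord,
        Nat.mul_div_cancel _ hmodd.pos]
    exact (S.3 (hp.to_sup_of_normal_right' S.2 (zpowers_le.2 (pow_mem hhS m))) le_sup_right).le
      (mem_sup_left (mem_zpowers _))
  have hfix : mk ⟨x, hxM⟩ ^ (j ^ m) = mk ⟨x, hxM⟩ := by
    have hmM : h ^ m ∈ M := ⟨hSX hhm, le_normalizer hhm⟩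
    have hz : h ^ m * x * (h ^ m)⁻¹ ∈ M := mul_mem (mul_mem hmM hxM) (inv_mem hmM)
    rw [← hiter m ⟨x, hxM⟩ hz,
      show (⟨h ^ m * x * (h ^ m)⁻¹, hz⟩ : ↥M) = ⟨h ^ m, hmM⟩ * ⟨x, hxM⟩ * (⟨h ^ m, hmM⟩ : ↥M)⁻¹ from rfl,
      map_mul, map_mul, map_inv,
      show mk ⟨h ^ m, hmM⟩ = 1 from (QuotientGroup.eq_one_iff _).2 ⟨mem_sup_left hhm, hmM⟩, one_mul, inv_one, mul_one]
  have hfinal : mk ⟨x', hx'M⟩ = mk ⟨x, hxM⟩ := by
    rw [← hmkx, hj]
    by_cases hq1 : mk ⟨x, hxM⟩ = 1
    · rw [hq1, one_zpow]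
    have ho : orderOf (mk ⟨x, hxM⟩) = 5 := orderOf_eq_prime (hcard5 ▸ pow_card_eq_one') hq1
    have h5j : ((j : ZMod 5)) ^ m = 1 := by
      have h1 : mk ⟨x, hxM⟩ ^ (j ^ m - 1) = 1 := by rw [zpow_sub, hfix, zpow_one, mul_inv_cancel]
      rw [← orderOf_dvd_iff_zpow_eq_one, ho, ← ZMod.intCast_zmod_eq_zero_iff_dvd, Int.cast_sub, Int.cast_pow,
        Int.cast_one, sub_eq_zero] at h1
      exact h1
    have hodd : ∀ z : ZMod 5, ∀ e : Fin 4, e.1 % 2 = 1 → z ^ e.1 = 1 → z = 1 := five_odd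
    have hj1 : (j : ZMod 5) = 1 := by
      refine hodd _ ⟨m % 4, Nat.mod_lt _ (by norm_num)⟩ (by have := Nat.odd_iff.1 hmodd; simp only; omega) ?_
      have h4 : ∀ z : ZMod 5, z = 0 ∨ z ^ 4 = 1 := five_pow
      rcases h4 (j : ZMod 5) with h0 | h4'
      · rw [h0, zero_pow hmodd.pos.ne'] at h5j
        exact absurd h5j zero_ne_one
      · rwa [← Nat.mod_add_div m 4, pow_add, pow_mul, h4', one_pow, mul_one] at h5j
    have hd : ((5 : ℕ) : ℤ) ∣ j - 1 := (ZMod.intCast_zmod_eq_zero_iff_dvd (j - 1) 5).1 (by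
      rw [Int.cast_sub, hj1, Int.cast_one, sub_self])
    rw [← ho, orderOf_dvd_iff_zpow_eq_one, zpow_sub, zpow_one, mul_inv_eq_one] at hd
    exact hd
  have hmem := QuotientGroup.eq.1
    (show ((⟨x, hxM⟩ : ↥M) : ↥M ⧸ L') = ((⟨x', hx'M⟩ : ↥M) : ↥M ⧸ L') from hfinal.symm)
  exact hPL _ (mul_mem (inv_mem hx) hg) hmem

/-- The centralisers of involutions have normal 2-complements. -/
theorem cenTwoNilp : ∀ t : G, orderOf t = 2 → Cfsg.HasNormalPComplement 2 ↥(centralizer ({t} : Set G)) := by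
  intro t ht
  haveI : Fact (Nat.Prime 2) := ⟨Nat.prime_two⟩
  obtain ⟨g, hg⟩ := exists_conj_mem_sylow S (zpowers_two ht)
  set v := g * t * g⁻¹ with hv
  have hvS : v ∈ (S : Subgroup G) := hg t (mem_zpowers t)
  have hvo : orderOf v = 2 := by rw [hv, Invol.order_conj, ht]
  have hvV : v ∈ V := q.invol v hvS (Invol.mul_self hvo)
  set X := centralizer ({v} : Set G) with hX
  have hXc : Closed π X := hm.closed_cent (Invol.ne_one hvo)
  obtain ⟨H, f⟩ := exists_frame_sylow hm.tc hXc S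
    (fun s hs => mem_centralizer_singleton_iff.2 (q.central v hvV s hs))
  have key : Cfsg.HasNormalPComplement 2 ↥X := by
    refine hasNormalPComplement_of_frame hm.tc hXc f fun r hr hr2 _ y hyX hyS ⟨a, ha⟩ => ?_
    haveI : Fact r.Prime := ⟨hr⟩
    have hy : IsPGroup r ↥(zpowers y) := IsPGroup.of_card (n := a) (by rw [Nat.card_zpowers, ha])
    refine q.centralizes hm hr2 hy hyS ?_
    -- fixing one involution of three
    have hv1 : v ≠ 1 := Invol.ne_one hvo
    obtain ⟨w, hwV, hw1, hwv⟩ := q.four.exists_ne (z := v)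
    have hS' : ∀ x ∈ V, y * x * y⁻¹ ∈ V := fun x hx => q.invol _ ((mem_normalizer_iff.1 hyS x).1 (q.le hx)) (by
      rw [show y * x * y⁻¹ * (y * x * y⁻¹) = y * (x * x) * y⁻¹ by group, q.four.sq x hx, mul_one, mul_inv_cancel])
    have hyv : y * v * y⁻¹ = v := by rw [mem_centralizer_singleton_iff.1 hyX, mul_inv_cancel_right]
    have hyw : y * w * y⁻¹ = w := by
      rcases q.four.cases hvV hwV hv1 hw1 hwv.symm (hS' w hwV) with h | h | h | h
      · exact absurd (conj_eq_one_iff.1 h) hw1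
      · rw [← hyv] at h; exact absurd (mul_left_cancel (mul_right_cancel h)) hwv
      · exact h
      · -- a transposition has even order
        have hodd : Odd (orderOf y) := by rw [ha]; exact (hr.odd_of_ne_two hr2).pow
        obtain ⟨i, hi⟩ := Invol.exists_sqrt hodd
        have h2 : (y ^ 2) * w * (y ^ 2)⁻¹ = w := by
          rw [show y ^ 2 * w * (y ^ 2)⁻¹ = y * (y * w * y⁻¹) * y⁻¹ by rw [pow_two]; group, h,
            show y * (v * w) * y⁻¹ = (y * v * y⁻¹) * (y * w * y⁻¹) by group, hyv, h, ← mul_assoc,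
            q.four.sq v hvV, one_mul]
        have h3 : Commute (y ^ 2) w := mul_inv_eq_iff_eq_mul.1 h2
        have h4 : Commute y w := by
          have := h3.pow_left i
          rwa [← pow_mul, mul_comm 2 i, pow_mul, hi] at this
        rw [h4.eq, mul_inv_cancel_right]
    refine mem_centralizer_iff.2 fun x hx => ?_
    have e1 : Commute y v := mul_inv_eq_iff_eq_mul.1 hyv
    have e2 : Commute y w := mul_inv_eq_iff_eq_mul.1 hyw
    rcases q.four.cases hvV hwV hv1 hw1 hwv.symm hx with rfl | rfl | rfl | rfl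
    · simp
    · exact e1.eq.symm
    · exact e2.eq.symm
    · exact (e1.mul_right e2).eq.symm
  have e : X = (centralizer ({t} : Set G)).map (MulAut.conj g).toMonoidHom := by
    ext z
    rw [hX, Invol.mem_conj_map, mem_centralizer_singleton_iff, mem_centralizer_singleton_iff, hv]
    constructor
    · intro h
      calc g⁻¹ * z * g * t = g⁻¹ * (z * (g * t * g⁻¹)) * g := by group
        _ = g⁻¹ * (g * t * g⁻¹ * z) * g := by rw [h]
        _ = _ := by group
    · intro h
      calc z * (g * t * g⁻¹) = g * (g⁻¹ * z * g * t) * g⁻¹ := by group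
        _ = g * (t * (g⁻¹ * z * g)) * g⁻¹ := by rw [h]
        _ = _ := by group
  rw [e] at key
  exact (PBasic.hasNormalPComplement_congr
    (Subgroup.equivMapOfInjective _ _ (MulAut.conj g).injective)).2 key

end Squares

end Cfsg.Agent.PiTwo
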