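import Cfsg.Agent.Lib.PiTwo.PSLTwo
import Cfsg.Agent.Lib.PiTwo.Squares
import Cfsg.Agent.Lib.CenNilp.RankTwo
import Cfsg.Agent.Lib.Fusion.PSL3Two

/-!
No minimal example of 2-rank at most two.
-/

set_option autoImplicit false
set_option linter.style.haveILetI false
set_option linter.unusedSectionVars false

open scoped Pointwise commutatorElement

namespace Cfsg.Agent.PiTwo

open Subgroup

universe u

variable {G : Type u} [Group G] [Finite G] {π : Set ℕ}

theorem form_fibre : ∀ n : U34Uniq.B × U34Uniq.B, n ≠ 1 →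
    (Finset.univ.filter fun p : U34Uniq.B × U34Uniq.B × U34Uniq.B × U34Uniq.B => U34Uniq.NF.form p = n).card = 5 := by
  decide +kernel

namespace Minimal

variable (hm : Minimal π G)
include hm

/-- A Sylow 2-subgroup has automorphisms of odd order. -/
theorem aut_false (S : Sylow 2 G) (hA : IsPGroup 2 (MulAut ↥(S : Subgroup G))) : False := by
  haveI : Fact (Nat.Prime 2) := ⟨Nat.prime_two⟩
  set N := normalizer ((S : Subgroup G) : Set G)
  set φ := (S : Subgroup G).normalizerMonoidHom
  set SN := (S : Subgroup G).subgroupOf N with hSN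
  have himg : SN.map φ = φ.range := by
    refine le_antisymm (Subgroup.map_le_range φ SN) ?_
    obtain ⟨k, hk⟩ := (hA.to_subgroup φ.range).exists_card_eq
    have h1 : (SN.map φ).relIndex φ.range ∣ SN.index := by
      rw [MonoidHom.range_eq_map, relIndex_map_map, top_sup_eq, relIndex_top_right]
      exact index_dvd_of_le le_sup_left
    have h2 : (SN.map φ).relIndex φ.range ∣ 2 ^ k := hk ▸ relIndex_dvd_card _ _
    refine relIndex_eq_one.1 (Nat.dvd_one.1 ?_)
    have hc : Nat.Coprime SN.index (2 ^ k) := Nat.Coprime.pow_right k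
      (Nat.prime_two.coprime_iff_not_dvd.2 (S.subtype le_normalizer).not_dvd_index).symm
    exact hc ▸ Nat.dvd_gcd h1 h2
  set P₀ := ⁅(S : Subgroup G), (S : Subgroup G)⁆
  refine hm.no_focal S P₀ (fun hle => hm.sylow_ne_bot S ?_) fun x hx g hg => ?_
  · exact le_bot_iff.1 (Fusion.le_of_le_commutator_sup (Fusion.sylow_isNilpotent S) le_rfl bot_le
      (fun s _ => by rw [normalizer_eq_top_iff.2 inferInstance]; exact mem_top s) (by rw [sup_bot_eq]; exact hle))
  · obtain ⟨n, hn, hnx⟩ := hm.control S (zpowers x) (zpowers_le.2 hx) g (by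
      rintro _ ⟨i, rfl⟩
      have := zpow_mem hg i
      rwa [conj_zpow] at this)
    obtain ⟨s, hs, hse⟩ : φ ⟨n, hn⟩ ∈ SN.map φ := himg ▸ ⟨_, rfl⟩
    have h : (s : G) * x * (s : G)⁻¹ = n * x * n⁻¹ :=
      congrArg (fun a : MulAut ↥(S : Subgroup G) => ((a ⟨x, hx⟩ : ↥(S : Subgroup G)) : G)) hse
    rw [← hnx x (mem_zpowers x), ← h]
    have hm' := commutator_mem_commutator (inv_mem hx) (show (s : G) ∈ (S : Subgroup G) from hs)
    rwa [commutatorElement_def, inv_inv, show x⁻¹ * (s : G) * x * (s : G)⁻¹ = x⁻¹ * ((s : G) * x * (s : G)⁻¹) by group]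
      at hm'

/-- With a Klein Sylow subgroup three lies in π. -/
theorem three_mem (S : Sylow 2 G) (hS : Four (S : Subgroup G)) : 3 ∈ π := by
  classical
  haveI : Fact (Nat.Prime 2) := ⟨Nat.prime_two⟩
  by_contra h3
  have hc : Closed π (normalizer ((S : Subgroup G) : Set G)) := hm.closed_two S.2 (hm.sylow_ne_bot S)
  have hall : ∀ n ∈ normalizer ((S : Subgroup G) : Set G), ∀ x ∈ (S : Subgroup G), n * x * n⁻¹ = x := by
    obtain ⟨H, f⟩ := exists_frame_sylow hm.tc hc S le_normalizer
    intro n hn x hx
    obtain ⟨k, hk, y, hy, rfl⟩ := f.decomp n hn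
    have hkx : ∀ z ∈ (S : Subgroup G), k * z = z * k := fun z hz =>
      core_centralizes hc (PiSub.of_isPGroup S.2 hm.tc.two) le_normalizer hk hz
        ((mem_normalizer_iff.1 (core_le _ hk) z).1 hz)
    rw [show k * y * x * (k * y)⁻¹ = k * (y * x * y⁻¹) * k⁻¹ by group,
      hkx _ ((mem_normalizer_iff.1 (f.norm hy) x).1 hx), mul_inv_cancel_right]
    -- the complement has order prime to three
    let φ := (S : Subgroup G).normalizerMonoidHom.comp (Subgroup.inclusion f.norm)
    have h1 : Nat.card ↥φ.range ∣ 6 := by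
      have hd : Nat.card ↥φ.range ∣ Nat.card (MulAut ↥(S : Subgroup G)) := card_subgroup_dvd_card _
      refine hd.trans ?_
      let T := {s : ↥(S : Subgroup G) // s ≠ 1}
      have hT : Nat.card T = 3 := by
        letI : Fintype ↥(S : Subgroup G) := Fintype.ofFinite _
        rw [Nat.card_eq_fintype_card, Fintype.card_subtype_compl, Fintype.card_subtype_eq, ← Nat.card_eq_fintype_card,
          hS.card]
      let ι : MulAut ↥(S : Subgroup G) →* Equiv.Perm T :=
        { toFun := fun a => a.toEquiv.subtypeEquiv fun s => (EmbeddingLike.map_ne_one_iff (f := a) (x := s)).symm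
          map_one' := Equiv.ext fun s => rfl
          map_mul' := fun a b => Equiv.ext fun s => rfl }
      have hι : Function.Injective ι := fun a b hab => MulEquiv.ext fun s => by
        by_cases hs : s = 1
        · rw [hs, map_one, map_one]
        · exact congrArg (fun p : Equiv.Perm T => ((p ⟨s, hs⟩ : T) : ↥(S : Subgroup G))) hab
      refine (Subgroup.card_dvd_of_injective ι hι).trans ?_
      rw [Nat.card_perm, hT]
      decide
    have hodd : ¬ 2 ∣ Nat.card ↥φ.range := by
      intro hd
      have hle : (S : Subgroup G).subgroupOf H ≤ φ.ker := fun s hs => MonoidHom.mem_ker.2 (MulEquiv.ext fun z => Subtype.ext (by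
        show (s : G) * z * (s : G)⁻¹ = z
        rw [show (s : G) * z = z * s from hS.comm hs z.2, mul_inv_cancel_right]))
      rw [← index_ker] at hd
      exact f.odd (hd.trans (index_dvd_of_le hle))
    have h3' : ¬ 3 ∣ Nat.card ↥φ.range := fun hd =>
      h3 (f.pi 3 Nat.prime_three (hd.trans (card_range_dvd φ)))
    have hone : Nat.card ↥φ.range = 1 := by
      have : Nat.card ↥φ.range ≤ 6 := Nat.le_of_dvd (by norm_num) h1
      interval_cases h : Nat.card ↥φ.range <;> first | rfl | omega
    have hy1 : φ ⟨y, hy⟩ = 1 := mem_bot.1 ((Subgroup.eq_bot_of_card_eq _ hone).le ⟨_, rfl⟩)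
    exact congrArg (fun a : MulAut ↥(S : Subgroup G) => ((a ⟨x, hx⟩ : ↥(S : Subgroup G)) : G)) hy1
  refine hm.no_focal S ⊥ (fun h => hm.sylow_ne_bot S (le_bot_iff.1 h)) fun x hx g hg => mem_bot.2 ?_
  obtain ⟨n, hn, hnx⟩ := hm.control S (zpowers x) (zpowers_le.2 hx) g (by
    rintro _ ⟨i, rfl⟩
    have := zpow_mem hg i
    rwa [conj_zpow] at this)
  rw [← hnx x (mem_zpowers x), hall n hn x hx, inv_mul_cancel]

/-- The final contradiction. -/
theorem false_of_minimal : False := by
  classical
  haveI := hm.simple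
  haveI : Fact (Nat.Prime 2) := ⟨Nat.prime_two⟩
  letI : Fintype (GaloisField 2 4) := Fintype.ofFinite _
  have hF : Fintype.card (GaloisField 2 4) = 16 := by
    rw [← Nat.card_eq_fintype_card, GaloisField.card 2 4 (by norm_num)]
    norm_num
  obtain ⟨S⟩ := (inferInstance : Nonempty (Sylow 2 G))
  obtain ⟨P⟩ := (inferInstance : Nonempty (Sylow 2 (Cfsg.PSU 3 (GaloisField 2 4) 4)))
  rcases S0516.result hm.nonab hm.prankLE S hF P with ⟨n, hn, e⟩ | h | h | ⟨⟨e⟩⟩
  · obtain ⟨e⟩ := e
    rcases Nat.lt_or_ge n 4 with hn4 | hn4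
    · -- Klein
      have hcS : Nat.card (S : Subgroup G) = 2 * n := by rw [Nat.card_congr e.toEquiv, DihedralGroup.nat_card]
      have hn2 : n = 2 := by
        obtain ⟨k, hk⟩ := IsPGroup.iff_card.1 S.2
        rcases Nat.lt_or_ge n 3 with h | h
        · omega
        · exfalso
          have hn3 : n = 3 := by omega
          rw [hcS, hn3] at hk
          have h3 : 3 ∣ 2 ^ k := hk ▸ (by norm_num : (3 : ℕ) ∣ 2 * 3)
          have := Nat.Prime.dvd_of_dvd_pow Nat.prime_three h3
          omega
      subst hn2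
      have hS : Four (S : Subgroup G) := ⟨by rw [hcS], fun a ha => by
        have hd : ∀ x : DihedralGroup 2, x * x = 1 := by decide
        have h1 : (⟨a, ha⟩ : ↥(S : Subgroup G)) * ⟨a, ha⟩ = 1 := e.injective (by rw [map_mul, map_one, hd])
        exact congrArg Subtype.val h1⟩
      rcases GW.simpleDihedral G S 2 le_rfl ⟨e⟩ with ⟨F, _, _, hodd, hc, ⟨eF⟩⟩ | hA
      · exact hm.no_psl hodd hc eF (hm.three_mem S hS)
      · obtain ⟨eA⟩ := hA
        have h8 := S.card_eq_multiplicity
        rw [hS.card, Nat.card_congr eA.toEquiv, nat_card_alternatingGroup, Nat.card_fin] at h8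
        have h9 : (Nat.factorial 7 / 2).factorization 2 = 3 := by
          rw [show Nat.factorial 7 / 2 = 2 ^ 3 * 315 from rfl, Nat.factorization_mul (by norm_num) (by norm_num),
            Finsupp.add_apply, Nat.prime_two.factorization_pow, Finsupp.single_eq_same,
            Nat.factorization_eq_zero_of_not_dvd (by norm_num)]
        rw [h9] at h8
        norm_num at h8
    · exact hm.aut_false S (S3116.result S.2 (Or.inl ⟨n, hn4, ⟨e⟩⟩))
  · exact hm.aut_false S (S3116.result S.2 (Or.inr h))
  · exact hm.aut_false S (FusionPSL3Two.aut_wreathed h)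
  · obtain ⟨hP1, hP2, hP3⟩ := S1141.result (F := GaloisField 2 4) (n := 2) le_rfl (by rw [hF]; norm_num) P
    have hSz : Cfsg.IsSuzukiTwoGroup ↥(S : Subgroup G) := SU3Sylow.suzuki_of_equiv e.symm hP3
    have hcard : Nat.card (S : Subgroup G) = 64 := by rw [Nat.card_congr e.toEquiv]; exact hP1.trans (by norm_num)
    have hZ : Nat.card (Subgroup.center ↥(S : Subgroup G)) = 4 := by
      rw [Nat.card_congr (Subgroup.centerCongr e).toEquiv]; exact hP2.trans (by norm_num)
    refine CenNilp.not_u34_sylow hm.nonab ?_ S hSz hcard hZ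
    have hna := hSz.2.2.1
    obtain ⟨D, -⟩ := Suzuki2.exists_datum hSz
    have hV4 : Nat.card ↥D.V = 4 := by rw [← D.center_eq_V hna]; exact hZ
    set V := D.V.map (S : Subgroup G).subtype with hV
    have hmemV : ∀ s, ∀ hs : s ∈ (S : Subgroup G), s * s = 1 → s ∈ V := fun s hs h =>
      ⟨⟨s, hs⟩, D.mem_V.2 (Subtype.ext h), rfl⟩
    have hq : Squares S V := by
      refine ⟨⟨?_, ?_⟩, map_subtype_le _, hcard, hmemV, fun s hs => ?_, ?_, ?_⟩
      · rw [hV, card_map_of_injective (S : Subgroup G).subtype_injective, hV4]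
      · rintro _ ⟨v, hv, rfl⟩
        exact congrArg Subtype.val (D.mem_V.1 hv)
      · exact ⟨⟨s, hs⟩ * ⟨s, hs⟩, D.sq_mem_V hna _, rfl⟩
      · rintro _ ⟨v, hv, rfl⟩ s hs
        exact congrArg Subtype.val (D.V_central hv ⟨s, hs⟩)
      · rintro _ ⟨v, hv, rfl⟩ hv1
        obtain ⟨N⟩ := U34Uniq.exists_NF D hna hV4 hcard
        obtain ⟨pr, hprs, hprk, hpr⟩ := N.exists_proj hcard
        obtain ⟨k', hk'⟩ : v ∈ N.iV.range := by
          rw [← hprk, MonoidHom.mem_ker]
          refine U34Uniq.NF.form_eq_one _ (N.iV_injective ?_)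
          rw [← hpr, D.mem_V.1 hv, map_one]
        have hk1 : k' ≠ 1 := fun e => hv1 (by rw [← hk', e, map_one, map_one])
        letI : Fintype ↥(S : Subgroup G) := Fintype.ofFinite _
        have e1 : Nat.card {s : G // s ∈ (S : Subgroup G) ∧ s * s = ((v : ↥(S : Subgroup G)) : G)} =
            Nat.card {s : ↥(S : Subgroup G) // U34Uniq.NF.form (pr s) = k'} := Nat.card_congr
          { toFun := fun s => ⟨⟨s.1, s.2.1⟩, N.iV_injective (by rw [← hpr, hk']; exact Subtype.ext s.2.2)⟩
            invFun := fun s => ⟨s.1.1, s.1.2, by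
              have h' := hpr s.1
              rw [s.2, hk'] at h'
              exact congrArg Subtype.val h'⟩
            left_inv := fun s => rfl
            right_inv := fun s => rfl }
        refine e1.trans ?_
        rw [Nat.card_eq_fintype_card, Fintype.card_subtype]
        have h := Finset.card_eq_sum_card_fiberwise (f := fun s : ↥(S : Subgroup G) => pr s)
          (s := Finset.univ.filter fun s => U34Uniq.NF.form (pr s) = k')
          (t := Finset.univ.filter fun p => U34Uniq.NF.form p = k') (fun s hs => by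
            simp only [Finset.coe_filter, Finset.mem_univ, true_and, Set.mem_setOf_eq] at hs ⊢
            exact hs)
        rw [h, Finset.sum_const_nat (m := 4), form_fibre k' hk1]
        intro p hp
        obtain ⟨s0, hs0⟩ := hprs p
        simp only [Finset.mem_filter, Finset.mem_univ, true_and] at hp
        rw [Finset.filter_filter, ← Fintype.card_subtype, ← Nat.card_eq_fintype_card, ← hV4,
          ← D.center_eq_V hna]
        have hkc : Nat.card ↥pr.ker = Nat.card ↥(Subgroup.center ↥(S : Subgroup G)) := by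
          rw [hZ, hprk, MonoidHom.range_eq_map, card_map_of_injective N.iV_injective, Subgroup.card_top]
          simp
        rw [← hkc]
        exact Nat.card_congr
          { toFun := fun s => ⟨s0⁻¹ * s.1, by rw [MonoidHom.mem_ker, map_mul, map_inv, hs0, s.2.2, inv_mul_cancel]⟩
            invFun := fun z => ⟨s0 * z.1, by
              have hz : pr (s0 * z.1) = p := by rw [map_mul, hs0, MonoidHom.mem_ker.1 z.2, mul_one]
              exact ⟨hz ▸ hp, hz⟩⟩
            left_inv := fun s => Subtype.ext (mul_inv_cancel_left _ _)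
            right_inv := fun z => Subtype.ext (inv_mul_cancel_left _ _) }
    exact hq.cenTwoNilp hm

end Minimal

end Cfsg.Agent.PiTwo
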